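import Mathlib
import Cfsg.Prelude.Def_Local
import Cfsg.Agent.Components.CyclicPair.Values
import Cfsg.Agent.Chars.Core
import Cfsg.Agent.Blocks.Third
import Cfsg.Agent.Blocks.Feit3
import Cfsg.Agent.Blocks.Columns
import Cfsg.Agent.Components.Local

/-!
Character facts used for the extremely closed subgroups: constancy of the principal block on
`x O_{p'}(C(x))`, a positivity inequality, restriction to abelian subgroups, common fixed vectors.
-/

set_option autoImplicit false
set_option linter.unusedSectionVars false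
set_option linter.style.haveILetI false

namespace Cfsg.Lib.ExtOdd

open Cfsg.Lib.Chars Cfsg.Lib.Blocks
open scoped ComplexConjugate

universe u

variable {G : Type u} [Group G] [Fintype G] {p : ℕ}

/-- The principal block is constant on `x O_{p'}(C(x))`. -/
theorem apply_mul_core [Fact p.Prime] {M : Ideal AlgInt} (hM : IsPModular p M) {x o : G}
    (hx : ∃ k : ℕ, orderOf x = p ^ k)
    (ho : o ∈ (pPrimeCore p (Subgroup.centralizer ({x} : Set G))).map
      (Subgroup.centralizer ({x} : Set G)).subtype)
    {χ : IrrCharacter G} (hχ : χ ∈ principalBlock M G) :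
    (χ : G → ℂ) (x * o) = (χ : G → ℂ) x := by
  classical
  set H := Subgroup.centralizer ({x} : Set G) with hH
  letI := Fintype.ofFinite H
  obtain ⟨o', ho', rfl⟩ := ho
  have hH' : H = Subgroup.centralizer (Subgroup.zpowers x : Set G) := (centralizer_zpowers x).symm
  have hB : IsPBlock M (principalBlock M G) := isPBlock_blockOf (principal G)
  have hp : p.Prime := Fact.out
  have hK : ¬ p ∣ Nat.card (pPrimeCore p H) :=
    hp.coprime_iff_not_dvd.1 (Cfsg.Lib.Components.coprime_card_pPrimeCore (G := H) p).symm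
  have ho2 : ¬ p ∣ orderOf o' := fun h => hK (h.trans (Subgroup.orderOf_dvd_natCard _ ho'))
  have h1 : ¬ p ∣ orderOf (1 : H) := by rw [orderOf_one]; exact hp.not_dvd_one
  have e : ∀ y : H, ¬ p ∣ orderOf y → (χ : G → ℂ) (x * (y : G)) =
      blockPart (principalBlock M H) (fun c : H => (χ : G → ℂ) (x * (c : G))) y := fun y hy => by
    rw [apply_mul_eq_sum_blockPart hM hx hH' hB hχ hy, filter_induced_principal hM hx hH',
      Finset.sum_singleton]
  show (χ : G → ℂ) (x * (o' : G)) = _
  conv_rhs => rw [← mul_one x, ← OneMemClass.coe_one H, e 1 h1]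
  rw [e o' ho2, blockPart_eq_sum, blockPart_eq_sum]
  refine Finset.sum_congr rfl fun ψ hψ => ?_
  rw [apply_eq_of_mem_normal_pPrime hM (pPrimeCore p H) hK (Finset.mem_filter.1 hψ).2 ho']

/-- the convolution of an irreducible character with its conjugate -/
theorem sum_conj_shift {χ : G → ℂ} (hχ : IsIrrCharacter G χ) (a b : G) :
    ∑ z : G, conj (χ (z * a)) * χ (z * b) = (Nat.card G : ℂ) / χ 1 * χ (a⁻¹ * b) := by
  classical
  have hcl := isClassFunction_isChar (isCharacter_of_irr hχ)
  have hself := classInner_self_irr hχ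
  obtain ⟨n, ρ, hρ, rfl⟩ := hχ
  have hf : IsClassFunction G fun y => conj (ρ.character y) := fun g h => by simp only [hcl g h]
  have h := sum_smul_rep_trace ρ hf (a⁻¹ * b)
  have hs : ∑ x : G, conj (ρ.character x) * ρ.character x = (Nat.card G : ℂ) := by
    rw [classInner_def, inv_mul_eq_one₀ (Nat.cast_ne_zero.2 Nat.card_pos.ne')] at hself
    rw [hself]
    exact Finset.sum_congr rfl fun x _ => mul_comm _ _
  rw [hs] at h
  rw [ρ.char_one, ← h, ← Equiv.sum_comp (Equiv.mulRight a⁻¹)]
  exact Finset.sum_congr rfl fun z _ => by simp [mul_assoc]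

theorem two_mul_norm_sum_le {ι : Type*} (s : Finset ι) (A B : ι → ℂ) :
    2 * ‖∑ z ∈ s, conj (A z) * B z‖ ≤ (∑ z ∈ s, ‖A z‖ ^ 2) + ∑ z ∈ s, ‖B z‖ ^ 2 := by
  rw [← Finset.sum_add_distrib]
  refine le_trans (mul_le_mul_of_nonneg_left (_root_.norm_sum_le _ _) two_pos.le) ?_
  rw [Finset.mul_sum]
  refine Finset.sum_le_sum fun z _ => ?_
  rw [norm_mul, Complex.norm_conj]
  nlinarith [sq_nonneg (‖A z‖ - ‖B z‖)]

section Abelian

variable {H : Subgroup G} [Fintype H] (hab : ∀ x ∈ H, ∀ y ∈ H, x * y = y * x)

include hab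

theorem comm_sub (a b : H) : a * b = b * a := Subtype.ext (hab a a.2 b b.2)

/-- irreducible characters of an abelian subgroup are homomorphisms -/
theorem exists_hom (s : IrrCharacter H) :
    ∃ f : H →* ℂˣ, ∀ h : H, (s : H → ℂ) h = (f h : ℂ) := by
  obtain ⟨f, hf⟩ := exists_hom_of_deg_one (isCharacter_of_irr s.2)
    (irr_deg_one_of_comm (comm_sub hab) s.2)
  exact ⟨f, congrFun hf⟩

theorem apply_mul (s : IrrCharacter H) (a b : H) :
    (s : H → ℂ) (a * b) = (s : H → ℂ) a * (s : H → ℂ) b := by
  obtain ⟨f, hf⟩ := exists_hom hab s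
  rw [hf, hf, hf, map_mul, Units.val_mul]

theorem apply_one' (s : IrrCharacter H) : (s : H → ℂ) 1 = 1 :=
  irr_deg_one_of_comm (comm_sub hab) s.2

theorem conj_mul_self (s : IrrCharacter H) (a : H) :
    conj ((s : H → ℂ) a) * (s : H → ℂ) a = 1 := by
  rw [← IsCharacter.conj_inv (isCharacter_of_irr s.2), ← apply_mul hab, inv_mul_cancel,
    apply_one' hab]

open scoped Classical in
theorem sum_chars (h : H) :
    ∑ s : IrrCharacter H, (s : H → ℂ) h = if h = 1 then (Nat.card H : ℂ) else 0 := by
  classical
  rw [← sum_deg_mul h]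
  exact Finset.sum_congr rfl fun s _ => by rw [apply_one' hab, one_mul]

theorem card_chars : Fintype.card (IrrCharacter H) = Nat.card H := by
  have h := sum_chars hab 1
  rw [if_pos rfl, Finset.sum_congr rfl fun s _ => apply_one' hab s, Finset.sum_const, nsmul_eq_mul,
    mul_one, Finset.card_univ] at h
  exact_mod_cast h

/-- twisting by a linear character and averaging over the subgroup -/
theorem norm_cross_le {χ : G → ℂ} (hχ : IsIrrCharacter G χ) (s : IrrCharacter H) (k : G) {m : ℕ}
    (hm : classInner (fun h : H => χ h) (s : H → ℂ) = m) :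
    ‖∑ h : H, conj ((s : H → ℂ) h) * χ (k * h)‖ ≤ (Nat.card H : ℝ) * m := by
  classical
  have hcl := isClassFunction_isChar (isCharacter_of_irr hχ)
  obtain ⟨d, hd0, hd⟩ := IsIrrCharacter.apply_one hχ
  set A : G → G → ℂ := fun l z => ∑ h : H, conj ((s : H → ℂ) h) * χ (z * (l * h)) with hA
  have hprod : ∀ l l' : G, ∑ z : G, conj (A l z) * A l' z =
      (Nat.card G : ℂ) / χ 1 * ((Nat.card H : ℂ) *
        ∑ h : H, conj ((s : H → ℂ) h) * χ (l⁻¹ * l' * h)) := by
    intro l l'
    have h1 : ∀ a b : H,
        ∑ z : G, conj (conj ((s : H → ℂ) a) * χ (z * (l * a))) *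
          (conj ((s : H → ℂ) (b * a)) * χ (z * (l' * (b * a : H)))) =
        conj ((s : H → ℂ) b) * ((Nat.card G : ℂ) / χ 1 * χ (l⁻¹ * l' * b)) := by
      intro a b
      have h2 : χ ((l * a)⁻¹ * (l' * (b * a : H))) = χ (l⁻¹ * l' * b) := by
        rw [show (l * a : G)⁻¹ * (l' * (b * a : H)) = (a : G)⁻¹ * (l⁻¹ * l' * b) * ((a : G)⁻¹)⁻¹ by
          rw [Subgroup.coe_mul]; group, hcl]
      rw [← h2, ← sum_conj_shift hχ, Finset.mul_sum]
      refine Finset.sum_congr rfl fun z _ => ?_
      rw [apply_mul hab, map_mul, map_mul, Complex.conj_conj]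
      linear_combination (conj ((s : H → ℂ) b) * (conj (χ (z * (l * a))) *
        χ (z * (l' * (b * a : H))))) * conj_mul_self hab s a
    calc ∑ z : G, conj (A l z) * A l' z
        = ∑ a : H, ∑ b : H, ∑ z : G, conj (conj ((s : H → ℂ) a) * χ (z * (l * a))) *
            (conj ((s : H → ℂ) b) * χ (z * (l' * b))) := by
          simp only [hA, map_sum, Finset.sum_mul_sum]
          rw [Finset.sum_comm]
          exact Finset.sum_congr rfl fun a _ => Finset.sum_comm
      _ = ∑ _a : H, ∑ b : H, conj ((s : H → ℂ) b) *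
            ((Nat.card G : ℂ) / χ 1 * χ (l⁻¹ * l' * b)) := by
          refine Finset.sum_congr rfl fun a _ => ?_
          refine (Equiv.sum_comp (Equiv.mulRight a : H ≃ H) _).symm.trans ?_
          exact Finset.sum_congr rfl fun b _ => h1 a b
      _ = _ := by
          rw [Finset.sum_const, Finset.card_univ, ← Nat.card_eq_fintype_card, nsmul_eq_mul,
            Finset.mul_sum, Finset.mul_sum, Finset.mul_sum]
          exact Finset.sum_congr rfl fun b _ => by ring
  have hdiag : ∀ l : G, ∑ z : G, (‖A l z‖ ^ 2 : ℝ) =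
      (Nat.card G : ℝ) / d * ((Nat.card H : ℝ) * ((Nat.card H : ℝ) * m)) := by
    intro l
    apply Complex.ofReal_injective
    have h1 : ∀ z, ((‖A l z‖ ^ 2 : ℝ) : ℂ) = conj (A l z) * A l z := fun z => by
      rw [Complex.conj_mul', Complex.ofReal_pow]
    rw [Complex.ofReal_sum, Finset.sum_congr rfl fun z _ => h1 z, hprod, inv_mul_cancel]
    have hmm : ∑ h : H, conj ((s : H → ℂ) h) * χ ((1 : G) * h) = (Nat.card H : ℂ) * m := by
      rw [← hm, classInner_def, ← mul_assoc, mul_inv_cancel₀ (Nat.cast_ne_zero.2 Nat.card_pos.ne'),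
        one_mul]
      exact Finset.sum_congr rfl fun h _ => by rw [one_mul, mul_comm]
    rw [hmm, hd]
    push_cast
    ring
  have h := two_mul_norm_sum_le Finset.univ (A 1) (A k)
  rw [hdiag, hdiag, hprod, inv_one, one_mul, norm_mul, norm_mul, norm_div, hd, Complex.norm_natCast,
    Complex.norm_natCast, Complex.norm_natCast] at h
  have hpos : (0 : ℝ) < (Nat.card G : ℝ) / d := by
    have : 0 < Nat.card G := Nat.card_pos
    positivity
  have hH : (0 : ℝ) < Nat.card H := Nat.cast_pos.2 Nat.card_pos
  nlinarith [mul_pos hpos hH]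

end Abelian

/-- If the fixed spaces of the members of a family have total codimension below the degree, a
normal subgroup generated by them lies in the kernel of an irreducible character. -/
theorem le_ker_of_codim {χ : G → ℂ} (hχ : IsIrrCharacter G χ) {ι : Type*} (S : Finset ι)
    (θ : ι → Subgroup G) [∀ i, Fintype (θ i)] (m : ι → ℕ) {d : ℕ} (hd : χ 1 = d)
    (hm : ∀ i ∈ S, classInner (fun x : θ i => χ x) (fun _ => 1) = m i)
    (hlt : ∑ i ∈ S, (d - m i) < d) (hN : (⨆ i ∈ S, θ i).Normal) :
    ∀ x ∈ ⨆ i ∈ S, θ i, χ x = χ 1 := by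
  classical
  obtain ⟨n, ρ, hρ, rfl⟩ := hχ
  have hn : n = d := by
    have := hd
    rw [ρ.char_one, Module.finrank_fintype_fun_eq_card, Fintype.card_fin] at this
    exact_mod_cast this
  let W : Subgroup G → Submodule ℂ (Fin n → ℂ) := fun K =>
    Representation.invariants (MonoidHom.comp ρ K.subtype : Representation ℂ K _)
  have hW : ∀ i ∈ S, Module.finrank ℂ (W (θ i)) = m i := by
    intro i hi
    have : Invertible (Nat.card (θ i) : ℂ) := invertibleOfNonzero (by exact_mod_cast Nat.card_pos.ne')
    have h := Representation.card_inv_mul_sum_char_eq_finrank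
      (MonoidHom.comp ρ (θ i).subtype : Representation ℂ (θ i) _)
    have h1 := hm i hi
    rw [classInner_def] at h1
    simp only [map_one, mul_one] at h1
    exact_mod_cast h.symm.trans h1
  have key : ∀ T : Finset ι, T ⊆ S →
      n ≤ Module.finrank ℂ ↥(T.inf fun i => W (θ i)) + ∑ i ∈ T, (d - m i) := by
    intro T
    induction T using Finset.induction with
    | empty =>
      intro _
      rw [Finset.inf_empty, finrank_top, Module.finrank_fintype_fun_eq_card, Fintype.card_fin]
      omega
    | @insert a T ha ih =>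
      intro hT
      have h1 := ih (Finset.subset_of_eq rfl |>.trans ((Finset.subset_insert a T).trans hT))
      rw [Finset.inf_insert, Finset.sum_insert ha]
      have h2 := Submodule.finrank_sup_add_finrank_inf_eq (W (θ a)) (T.inf fun i => W (θ i))
      have h3 := Submodule.finrank_le (W (θ a) ⊔ T.inf fun i => W (θ i))
      rw [Module.finrank_fintype_fun_eq_card, Fintype.card_fin] at h3
      rw [hW a (hT (Finset.mem_insert_self a T))] at h2
      omega
  set Θ := ⨆ i ∈ S, θ i with hΘ
  have hmem : ∀ v ∈ S.inf (fun i => W (θ i)), ∀ x ∈ Θ, ρ x v = v := by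
    intro v hv
    let K : Subgroup G :=
      { carrier := {x | ρ x v = v}
        one_mem' := by simp
        mul_mem' := fun {a b} ha hb => by
          show ρ (a * b) v = v
          rw [map_mul, Module.End.mul_apply, show ρ b v = v from hb, show ρ a v = v from ha]
        inv_mem' := fun {a} ha => by
          show ρ a⁻¹ v = v
          conv_lhs => rw [← show ρ a v = v from ha]
          rw [← Module.End.mul_apply, ← map_mul, inv_mul_cancel, map_one]
          rfl }
    have hle : Θ ≤ K := iSup₂_le fun i hi x hx =>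
      ((Representation.mem_invariants _ v).1 ((Finset.inf_le (f := fun i => W (θ i)) hi) hv)) ⟨x, hx⟩
    exact fun x hx => hle hx
  have hne : W Θ ≠ ⊥ := by
    have h0 := key S subset_rfl
    have hpos : 0 < Module.finrank ℂ ↥(S.inf fun i => W (θ i)) := by omega
    intro hb
    have hle : S.inf (fun i => W (θ i)) ≤ W Θ := fun v hv =>
      (Representation.mem_invariants _ v).2 fun x => hmem v hv x x.2
    rw [hb, le_bot_iff] at hle
    rw [hle, finrank_bot] at hpos
    exact lt_irrefl 0 hpos
  let U : Subrepresentation ρ :=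
    { toSubmodule := W Θ
      apply_mem_toSubmodule := fun g v hv => (Representation.mem_invariants _ _).2 fun x => by
        show ρ (x : G) (ρ g v) = ρ g v
        have h1 : ρ (g⁻¹ * x * g) v = v := (Representation.mem_invariants _ v).1 hv
          ⟨g⁻¹ * x * g, by have h2 := hN.conj_mem (x : G) x.2 g⁻¹; rwa [inv_inv] at h2⟩
        conv_rhs => rw [← h1]
        rw [← Module.End.mul_apply, ← Module.End.mul_apply, ← map_mul, ← map_mul]
        congr 2
        group }
  have hU : U = ⊤ := (IsSimpleOrder.eq_bot_or_eq_top U).resolve_left fun h =>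
    hne (congrArg Subrepresentation.toSubmodule h)
  intro x hx
  rw [ρ.char_one]
  refine (eq_id_of_character_eq_finrank ρ x).2 (LinearMap.ext fun v => ?_)
  have : v ∈ U.toSubmodule := by rw [hU]; exact Submodule.mem_top
  exact (Representation.mem_invariants _ v).1 this ⟨x, hx⟩

end Cfsg.Lib.ExtOdd
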