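import Mathlib
import Cfsg.Agent.ExtClosedOdd.CharTools

/-!
Fourier analysis of the class-product relation on an abelian subgroup `H`: the multiplicities of
the linear characters of `H` in the characters of a family satisfy a symmetric cubic relation.
-/

set_option autoImplicit false
set_option linter.unusedSectionVars false

namespace Cfsg.Lib.ExtOdd

open Cfsg.Lib.Chars
open scoped ComplexConjugate

universe u

variable {G : Type u} [Group G] [Fintype G] (H : Subgroup G) [Fintype H]

/-- the multiplicity of a character of `H` in the restriction of a character of `G` -/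
noncomputable def mult (χ : IrrCharacter G) (s : IrrCharacter H) : ℕ :=
  (IsCharacter.exists_mult (IsCharacter.restrict (isCharacter_of_irr χ.2) H) s.2).choose

theorem classInner_mult (χ : IrrCharacter G) (s : IrrCharacter H) :
    classInner (fun h : H => (χ : G → ℂ) h) (s : H → ℂ) = mult H χ s :=
  (IsCharacter.exists_mult (IsCharacter.restrict (isCharacter_of_irr χ.2) H) s.2).choose_spec

theorem sum_mul_conj_mult (χ : IrrCharacter G) (s : IrrCharacter H) :
    ∑ h : H, conj ((s : H → ℂ) h) * (χ : G → ℂ) h = (Nat.card H : ℂ) * mult H χ s := by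
  rw [← classInner_mult, classInner_def, ← mul_assoc,
    mul_inv_cancel₀ (Nat.cast_ne_zero.2 Nat.card_pos.ne'), one_mul]
  exact Finset.sum_congr rfl fun h _ => mul_comm _ _

theorem apply_eq_sum_mult (χ : IrrCharacter G) (h : H) :
    (χ : G → ℂ) h = ∑ s : IrrCharacter H, (mult H χ s : ℂ) * (s : H → ℂ) h := by
  rw [classFunction_expand_apply
    (isClassFunction_isChar (IsCharacter.restrict (isCharacter_of_irr χ.2) H)) h]
  exact Finset.sum_congr rfl fun s _ => by rw [classInner_mult]

/-- conjugation by an element normalizing `H` -/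
noncomputable def conjH (n : Subgroup.normalizer (H : Set G)) : H ≃* H where
  toFun h := ⟨(n : G) * h * (n : G)⁻¹, (Subgroup.mem_normalizer_iff.1 n.2 (h : G)).1 h.2⟩
  invFun h := ⟨(n : G)⁻¹ * h * (n : G), by
    have := (Subgroup.mem_normalizer_iff.1 (inv_mem n.2) (h : G)).1 h.2
    rwa [inv_inv] at this⟩
  left_inv h := Subtype.ext (by simp [mul_assoc])
  right_inv h := Subtype.ext (by simp [mul_assoc])
  map_mul' a b := Subtype.ext (by simp [mul_assoc])

theorem conjH_apply (n : Subgroup.normalizer (H : Set G)) (h : H) :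
    ((conjH H n h : H) : G) = (n : G) * h * (n : G)⁻¹ := rfl

/-- a character of `H` composed with conjugation -/
noncomputable def tw (n : Subgroup.normalizer (H : Set G)) (s : IrrCharacter H) : IrrCharacter H :=
  ⟨fun h => (s : H → ℂ) (conjH H n h), IsIrrCharacter.comp_mulEquiv s.2 (conjH H n)⟩

theorem tw_apply (n : Subgroup.normalizer (H : Set G)) (s : IrrCharacter H) (h : H) :
    (tw H n s : H → ℂ) h = (s : H → ℂ) (conjH H n h) := rfl

/-- related characters -/
def Rel (s t : IrrCharacter H) : Prop := ∃ n : Subgroup.normalizer (H : Set G), tw H n s = t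

theorem tw_tw (n n' : Subgroup.normalizer (H : Set G)) (s : IrrCharacter H) :
    tw H n' (tw H n s) = tw H (n * n') s := by
  refine Subtype.ext (funext fun h => ?_)
  rw [tw_apply, tw_apply, tw_apply]
  refine congrArg (s : H → ℂ) (Subtype.ext ?_)
  simp only [conjH_apply, Subgroup.coe_mul, mul_inv_rev]
  group

theorem tw_one (s : IrrCharacter H) : tw H 1 s = s := by
  refine Subtype.ext (funext fun h => ?_)
  rw [tw_apply]
  exact congrArg (s : H → ℂ) (Subtype.ext (by simp [conjH_apply]))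

theorem Rel.refl (s : IrrCharacter H) : Rel H s s := ⟨1, tw_one H s⟩

theorem Rel.symm {s t : IrrCharacter H} (h : Rel H s t) : Rel H t s := by
  obtain ⟨n, rfl⟩ := h
  exact ⟨n⁻¹, by rw [tw_tw, mul_inv_cancel, tw_one]⟩

theorem Rel.trans {s t u : IrrCharacter H} (h : Rel H s t) (h' : Rel H t u) : Rel H s u := by
  obtain ⟨n, rfl⟩ := h
  obtain ⟨n', rfl⟩ := h'
  exact ⟨n * n', (tw_tw H n n' s).symm⟩

theorem mult_tw (χ : IrrCharacter G) (n : Subgroup.normalizer (H : Set G)) (s : IrrCharacter H) :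
    mult H χ (tw H n s) = mult H χ s := by
  have h1 : classInner (fun h : H => (χ : G → ℂ) h) (tw H n s : H → ℂ) =
      classInner (fun h : H => (χ : G → ℂ) h) (s : H → ℂ) := by
    rw [← classInner_comp_equiv (conjH H n).toEquiv (fun h : H => (χ : G → ℂ) h) (s : H → ℂ)]
    congr 1
    funext h
    show (χ : G → ℂ) h = (χ : G → ℂ) ((n : G) * h * (n : G)⁻¹)
    rw [isClassFunction_irr χ]
  rw [classInner_mult, classInner_mult] at h1
  exact_mod_cast h1

theorem Rel.mult_eq {s t : IrrCharacter H} (h : Rel H s t) (χ : IrrCharacter G) :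
    mult H χ t = mult H χ s := by
  obtain ⟨n, rfl⟩ := h
  exact mult_tw H χ n s

variable {H} (hab : ∀ x ∈ H, ∀ y ∈ H, x * y = y * x)

include hab

theorem sum_mult (χ : IrrCharacter G) :
    ∑ s : IrrCharacter H, mult H χ s = deg (χ : G → ℂ) := by
  have h := apply_eq_sum_mult H χ 1
  simp only [OneMemClass.coe_one, apply_one' hab, mul_one, irr_apply_one_eq_deg] at h
  exact_mod_cast h.symm

/-- the transform of a relation vanishing off the identity -/
theorem sum_mult_eq (B : Finset (IrrCharacter G)) (c : IrrCharacter G → ℂ)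
    (hc : ∀ y : H, y ≠ 1 → ∑ χ ∈ B, conj ((χ : G → ℂ) y) * c χ = 0) (s : IrrCharacter H) :
    (Nat.card H : ℂ) * ∑ χ ∈ B, (mult H χ s : ℂ) * c χ = ∑ χ ∈ B, (χ : G → ℂ) 1 * c χ := by
  classical
  have h1 : ∀ χ : IrrCharacter G,
      ∑ y : H, (s : H → ℂ) y * conj ((χ : G → ℂ) y) = (Nat.card H : ℂ) * mult H χ s := by
    intro χ
    have h := congrArg conj (sum_mul_conj_mult H χ s)
    simpa [map_sum, map_mul] using h
  rw [Finset.mul_sum]
  calc ∑ χ ∈ B, (Nat.card H : ℂ) * ((mult H χ s : ℂ) * c χ)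
      = ∑ y : H, (s : H → ℂ) y * ∑ χ ∈ B, conj ((χ : G → ℂ) y) * c χ := by
        simp only [← mul_assoc, ← h1, Finset.sum_mul, Finset.mul_sum]
        exact Finset.sum_comm
    _ = (s : H → ℂ) 1 * ∑ χ ∈ B, conj ((χ : G → ℂ) (1 : H)) * c χ :=
        Finset.sum_eq_single 1 (fun y _ hy => by rw [hc y hy, mul_zero]) (by simp)
    _ = _ := by
        rw [apply_one' hab, one_mul]
        exact Finset.sum_congr rfl fun χ _ => by
          rw [OneMemClass.coe_one, irr_apply_one_eq_deg, Complex.conj_natCast]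

variable [Fintype (Subgroup.normalizer (H : Set G))]

/-- the class-product relation on a family -/
def Relation (B : Finset (IrrCharacter G)) : Prop :=
  ∀ y h h' : H, y ≠ 1 → ∑ χ ∈ B, conj ((χ : G → ℂ) y) *
    ((χ : G → ℂ) h * (χ : G → ℂ) h' / (χ : G → ℂ) 1 -
      (Nat.card (Subgroup.normalizer (H : Set G)) : ℂ)⁻¹ *
        ∑ n : Subgroup.normalizer (H : Set G), (χ : G → ℂ) ((n : G) * h * (n : G)⁻¹ * h')) = 0

open scoped Classical in
theorem shifted_sum (χ : IrrCharacter G) (t u : IrrCharacter H)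
    (n : Subgroup.normalizer (H : Set G)) :
    ∑ h : H, ∑ h' : H, conj ((t : H → ℂ) h) * conj ((u : H → ℂ) h') *
      (χ : G → ℂ) ((n : G) * h * (n : G)⁻¹ * h') =
      (if tw H n u = t then (Nat.card H : ℂ) ^ 2 else 0) * mult H χ u := by
  have h1 : ∀ h : H, ∑ h' : H, conj ((t : H → ℂ) h) * conj ((u : H → ℂ) h') *
      (χ : G → ℂ) ((n : G) * h * (n : G)⁻¹ * h') =
      conj ((t : H → ℂ) h) * (tw H n u : H → ℂ) h * ((Nat.card H : ℂ) * mult H χ u) := by
    intro h
    rw [← sum_mul_conj_mult, Finset.mul_sum,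
      ← Equiv.sum_comp (Equiv.mulLeft (conjH H n h)⁻¹)]
    refine Finset.sum_congr rfl fun k _ => ?_
    simp only [Equiv.coe_mulLeft]
    rw [apply_mul hab, map_mul, IsCharacter.conj_inv (isCharacter_of_irr u.2), Complex.conj_conj,
      tw_apply,
      show (n : G) * h * (n : G)⁻¹ * (((conjH H n h)⁻¹ * k : H) : G) = k by
        rw [Subgroup.coe_mul, InvMemClass.coe_inv, conjH_apply]; group]
    ring
  rw [Finset.sum_congr rfl fun h _ => h1 h, ← Finset.sum_mul]
  have h2 : ∑ h : H, conj ((t : H → ℂ) h) * (tw H n u : H → ℂ) h =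
      if tw H n u = t then (Nat.card H : ℂ) else 0 := by
    have h3 := classInner_irrCharacter (tw H n u) t
    rw [classInner_def, inv_mul_eq_iff_eq_mul₀ (Nat.cast_ne_zero.2 Nat.card_pos.ne')] at h3
    rw [Finset.sum_congr rfl fun h _ => mul_comm _ _, h3]
    split_ifs <;> simp
  rw [h2]
  split_ifs <;> ring

open scoped Classical in
theorem transform {B : Finset (IrrCharacter G)} (hrel : Relation (H := H) B)
    (s t u : IrrCharacter H) {κ : ℂ}
    (hκ : (Nat.card (Subgroup.normalizer (H : Set G)) : ℂ)⁻¹ *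
      ∑ n : Subgroup.normalizer (H : Set G), (if tw H n u = t then (1 : ℂ) else 0) = κ) :
    (Nat.card H : ℂ) * ∑ χ ∈ B, (mult H χ s : ℂ) *
        ((mult H χ t : ℂ) * mult H χ u / (χ : G → ℂ) 1 - κ * mult H χ u) =
      ∑ χ ∈ B, ((mult H χ t : ℂ) * mult H χ u - κ * ((χ : G → ℂ) 1 * mult H χ u)) := by
  set c : IrrCharacter G → ℂ := fun χ =>
    (mult H χ t : ℂ) * mult H χ u / (χ : G → ℂ) 1 - κ * mult H χ u with hcdef
  have hne : ((Nat.card H : ℂ) ^ 2) ≠ 0 := pow_ne_zero _ (Nat.cast_ne_zero.2 Nat.card_pos.ne')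
  have hc : ∀ χ : IrrCharacter G, (Nat.card H : ℂ) ^ 2 * c χ =
      ∑ h : H, ∑ h' : H, conj ((t : H → ℂ) h) * conj ((u : H → ℂ) h') *
        ((χ : G → ℂ) h * (χ : G → ℂ) h' / (χ : G → ℂ) 1 -
          (Nat.card (Subgroup.normalizer (H : Set G)) : ℂ)⁻¹ *
            ∑ n : Subgroup.normalizer (H : Set G),
              (χ : G → ℂ) ((n : G) * h * (n : G)⁻¹ * h')) := by
    intro χ
    simp only [mul_sub, Finset.sum_sub_distrib]
    have hA : ∑ h : H, ∑ h' : H, conj ((t : H → ℂ) h) * conj ((u : H → ℂ) h') *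
        ((χ : G → ℂ) h * (χ : G → ℂ) h' / (χ : G → ℂ) 1) =
        (Nat.card H : ℂ) ^ 2 * ((mult H χ t : ℂ) * mult H χ u / (χ : G → ℂ) 1) := by
      rw [show (Nat.card H : ℂ) ^ 2 * ((mult H χ t : ℂ) * mult H χ u / (χ : G → ℂ) 1) =
        ((Nat.card H : ℂ) * mult H χ t) * ((Nat.card H : ℂ) * mult H χ u) / (χ : G → ℂ) 1 by ring,
        ← sum_mul_conj_mult, ← sum_mul_conj_mult, Finset.sum_mul_sum, Finset.sum_div]
      refine Finset.sum_congr rfl fun h _ => ?_
      rw [Finset.sum_div]
      exact Finset.sum_congr rfl fun h' _ => by ring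
    have hB : ∑ h : H, ∑ h' : H, conj ((t : H → ℂ) h) * conj ((u : H → ℂ) h') *
        ((Nat.card (Subgroup.normalizer (H : Set G)) : ℂ)⁻¹ *
          ∑ n : Subgroup.normalizer (H : Set G), (χ : G → ℂ) ((n : G) * h * (n : G)⁻¹ * h')) =
        (Nat.card H : ℂ) ^ 2 * (κ * mult H χ u) := by
      calc _ = (Nat.card (Subgroup.normalizer (H : Set G)) : ℂ)⁻¹ *
            ∑ n : Subgroup.normalizer (H : Set G), ∑ h : H, ∑ h' : H,
              conj ((t : H → ℂ) h) * conj ((u : H → ℂ) h') *
                (χ : G → ℂ) ((n : G) * h * (n : G)⁻¹ * h') := by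
            simp only [Finset.mul_sum]
            conv_rhs => rw [Finset.sum_comm]
            refine Finset.sum_congr rfl fun h _ => ?_
            rw [Finset.sum_comm]
            exact Finset.sum_congr rfl fun n _ => Finset.sum_congr rfl fun h' _ => by ring
        _ = _ := by
            rw [Finset.sum_congr rfl fun n _ => shifted_sum hab χ t u n, ← hκ]
            simp only [Finset.mul_sum, Finset.sum_mul]
            exact Finset.sum_congr rfl fun n _ => by split_ifs <;> ring
    rw [hA, hB]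
    simp only [hcdef]
    ring
  have hz : ∀ y : H, y ≠ 1 → ∑ χ ∈ B, conj ((χ : G → ℂ) y) * c χ = 0 := by
    intro y hy
    refine (mul_eq_zero.1 ?_).resolve_left hne
    rw [Finset.mul_sum, Finset.sum_congr rfl fun (χ : IrrCharacter G) _ =>
      show (Nat.card H : ℂ) ^ 2 * (conj ((χ : G → ℂ) (y : G)) * c χ) =
        conj ((χ : G → ℂ) (y : G)) * ((Nat.card H : ℂ) ^ 2 * c χ) by ring]
    simp only [hc, Finset.mul_sum]
    rw [Finset.sum_comm]
    refine Finset.sum_eq_zero fun h _ => ?_
    rw [Finset.sum_comm]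
    refine Finset.sum_eq_zero fun h' _ => ?_
    have := hrel y h h' hy
    calc ∑ χ ∈ B, _ = (conj ((t : H → ℂ) h) * conj ((u : H → ℂ) h')) * ∑ χ ∈ B,
          conj ((χ : G → ℂ) y) * ((χ : G → ℂ) h * (χ : G → ℂ) h' / (χ : G → ℂ) 1 -
            (Nat.card (Subgroup.normalizer (H : Set G)) : ℂ)⁻¹ *
              ∑ n : Subgroup.normalizer (H : Set G),
                (χ : G → ℂ) ((n : G) * h * (n : G)⁻¹ * h')) := by
          rw [Finset.mul_sum]
          exact Finset.sum_congr rfl fun χ _ => by rw [← Finset.mul_sum]; ring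
      _ = 0 := by rw [this, mul_zero]
  rw [sum_mult_eq hab B c hz s]
  refine Finset.sum_congr rfl fun χ _ => ?_
  have := IsIrrCharacter.apply_one_ne_zero χ.2
  simp only [hcdef]
  field_simp

/-- For characters of three different classes the multiplicities agree. -/
theorem mult_eq_of_three {B : Finset (IrrCharacter G)} (hrel : Relation (H := H) B)
    {s t u : IrrCharacter H} (hst : ¬ Rel H s t) (hsu : ¬ Rel H s u) (htu : ¬ Rel H t u)
    {χ : IrrCharacter G} (hχ : χ ∈ B) (hs : mult H χ s ≠ 0) : mult H χ t = mult H χ u := by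
  classical
  have hT : ∀ a b c : IrrCharacter H, ¬ Rel H b c →
      (Nat.card H : ℂ) * ∑ χ ∈ B,
          (mult H χ a : ℂ) * mult H χ b * mult H χ c / (χ : G → ℂ) 1 =
        ∑ χ ∈ B, (mult H χ b : ℂ) * mult H χ c := by
    intro a b c hbc
    have h := transform hab hrel a b c (κ := 0) (by
      rw [Finset.sum_eq_zero fun n _ => ?_, mul_zero]
      exact if_neg fun he => hbc (Rel.symm H ⟨n, he⟩))
    simp only [zero_mul, sub_zero] at h
    rw [← h]
    congr 1
    exact Finset.sum_congr rfl fun χ _ => by ring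
  set T : IrrCharacter H → IrrCharacter H → IrrCharacter H → ℂ := fun a b c =>
    ∑ χ ∈ B, (mult H χ a : ℂ) * mult H χ b * mult H χ c / (χ : G → ℂ) 1
  have hperm1 : ∀ a b c, T a b c = T b a c := fun a b c =>
    Finset.sum_congr rfl fun χ _ => by ring
  have hperm2 : ∀ a b c, T a b c = T a c b := fun a b c =>
    Finset.sum_congr rfl fun χ _ => by ring
  have hne : (Nat.card H : ℂ) ≠ 0 := Nat.cast_ne_zero.2 Nat.card_pos.ne'
  have hind : ∀ a a' b c, ¬ Rel H b c → T a b c = T a' b c := fun a a' b c hbc =>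
    mul_left_cancel₀ hne ((hT a b c hbc).trans (hT a' b c hbc).symm)
  have e1 : T s t t = T s t u := by
    rw [hperm1 s t t, hind t u s t hst, hperm1 u s t, hperm2 s u t]
  have e2 : T s u u = T s t u := by
    rw [hperm1 s u u, hind u t s u hsu, hperm1 t s u]
  have hsum : ∑ χ ∈ B, ((((mult H χ s : ℝ) * ((mult H χ t : ℝ) - mult H χ u) ^ 2) /
      (deg (χ : G → ℂ) : ℝ) : ℝ) : ℂ) = 0 := by
    rw [show (0 : ℂ) = T s t t - T s t u - T s t u + T s u u by rw [e1, e2]; ring]
    simp only [T, ← Finset.sum_sub_distrib, ← Finset.sum_add_distrib]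
    refine Finset.sum_congr rfl fun χ _ => ?_
    rw [irr_apply_one_eq_deg]
    push_cast
    ring
  rw [← Complex.ofReal_sum, Complex.ofReal_eq_zero,
    Finset.sum_eq_zero_iff_of_nonneg fun χ _ => by positivity] at hsum
  have h := hsum χ hχ
  have hd : (deg (χ : G → ℂ) : ℝ) ≠ 0 := Nat.cast_ne_zero.2 (deg_irr_pos χ).ne'
  rw [div_eq_zero_iff, or_iff_left hd, mul_eq_zero, or_iff_right (Nat.cast_ne_zero.2 hs),
    pow_eq_zero_iff two_ne_zero, sub_eq_zero] at h
  exact_mod_cast h

/-- A member is supported on one class or has constant multiplicities, if there are three classes. -/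
theorem single_or_const {B : Finset (IrrCharacter G)} (hrel : Relation (H := H) B)
    {a b c : IrrCharacter H} (hab' : ¬ Rel H a b) (hac : ¬ Rel H a c) (hbc : ¬ Rel H b c)
    {χ : IrrCharacter G} (hχ : χ ∈ B) :
    (∃ s, mult H χ s ≠ 0 ∧ ∀ t, ¬ Rel H s t → mult H χ t = 0) ∨
      ∀ s t, mult H χ s = mult H χ t := by
  by_contra hcon
  push Not at hcon
  obtain ⟨hsingle, s₁, t₁, hne⟩ := hcon
  obtain ⟨s, -, hs⟩ : ∃ s ∈ (Finset.univ : Finset (IrrCharacter H)), mult H χ s ≠ 0 := by
    refine Finset.exists_ne_zero_of_sum_ne_zero ?_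
    rw [sum_mult hab]
    exact (deg_irr_pos χ).ne'
  obtain ⟨t, hst, ht⟩ := hsingle s hs
  -- a third class
  obtain ⟨u, hsu, htu⟩ : ∃ u, ¬ Rel H s u ∧ ¬ Rel H t u := by
    by_contra hno
    push Not at hno
    have hcl : ∀ x, Rel H s x ∨ Rel H t x := fun x => or_iff_not_imp_left.2 (hno x)
    rcases hcl a with h1 | h1 <;> rcases hcl b with h2 | h2 <;> rcases hcl c with h3 | h3
    all_goals first
      | exact hab' ((Rel.symm H h1).trans H h2)
      | exact hac ((Rel.symm H h1).trans H h3)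
      | exact hbc ((Rel.symm H h2).trans H h3)
  have e1 := mult_eq_of_three hab hrel hst hsu htu hχ hs
  have e2 := mult_eq_of_three hab hrel (fun h => hst (Rel.symm H h)) htu hsu hχ ht
  -- every class has the common value
  have hall : ∀ x, mult H χ x = mult H χ u := by
    intro x
    by_cases h1 : Rel H s x
    · rw [Rel.mult_eq H h1, e2]
    by_cases h2 : Rel H t x
    · rw [Rel.mult_eq H h2, e1]
    have h3 := mult_eq_of_three hab hrel hst h1 h2 hχ hs
    rw [← h3, e1]
  exact hne ((hall s₁).trans (hall t₁).symm)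

end Cfsg.Lib.ExtOdd
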