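import Mathlib
import Cfsg.Agent.ExtClosedOdd.Basic
import Cfsg.Agent.ExtClosedOdd.Fourier
import Cfsg.Agent.Components.Misc.EasyThree
import Cfsg.Agent.Coprime.Generation

/-!
A minimal counterexample: the class-product relation on the principal block and the bounds on
multiplicities.
-/

set_option autoImplicit false
set_option linter.unusedSectionVars false
set_option linter.style.haveILetI false

namespace Cfsg.Lib.ExtOdd

open Cfsg.Lib.Chars Cfsg.Lib.Blocks
open scoped ComplexConjugate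

universe u

variable {G : Type u} [Group G] [Fintype G] {p : ℕ} [Fact p.Prime]

/-- the data of a minimal counterexample -/
structure Crit (p : ℕ) (H : Subgroup G) : Prop extends Hyp p H where
  loc : ∀ x ∈ H, x ≠ 1 → Local p H (Subgroup.centralizer ({x} : Set G))
  core_bot : Cfsg.pPrimeCore p G = ⊥
  closure_top : Subgroup.normalClosure (H : Set G) = ⊤
  ne_top : Subgroup.normalizer (H : Set G) ≠ ⊤

variable {H : Subgroup G} [Fintype H]

/-- the trivial character of `H` -/
noncomputable abbrev triv (H : Subgroup G) : IrrCharacter H := principal H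

omit [Fintype G] [Fact p.Prime] in
theorem triv_apply (h : H) : (triv H : H → ℂ) h = 1 := rfl

theorem apply_of_mult_triv (hab : ∀ x ∈ H, ∀ y ∈ H, x * y = y * x) {χ : IrrCharacter G}
    (hm : mult H χ (triv H) = deg (χ : G → ℂ)) (h : H) : (χ : G → ℂ) h = (χ : G → ℂ) 1 := by
  classical
  have hsum := sum_mult hab χ
  rw [← Finset.add_sum_erase _ _ (Finset.mem_univ (triv H)), hm] at hsum
  have hzero : ∀ s : IrrCharacter H, s ≠ triv H → mult H χ s = 0 := fun s hs =>
    Finset.sum_eq_zero_iff.1 (by omega : ∑ x ∈ Finset.univ.erase (triv H), mult H χ x = 0) s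
      (Finset.mem_erase.2 ⟨hs, Finset.mem_univ _⟩)
  rw [apply_eq_sum_mult H χ h, Finset.sum_eq_single (triv H) (fun s _ hs => by
    rw [hzero s hs, Nat.cast_zero, zero_mul]) (by simp), triv_apply, mul_one, hm,
    irr_apply_one_eq_deg]

theorem eq_principal_of_const {χ : IrrCharacter G} (h : ∀ g : G, (χ : G → ℂ) g = (χ : G → ℂ) 1) :
    χ = principal G := by
  by_contra hne
  have h0 := classInner_irr_ne hne
  rw [classInner_def, Finset.sum_congr rfl fun (g : G) _ => show (χ : G → ℂ) g *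
    conj (((principal G : IrrCharacter G) : G → ℂ) g) = (χ : G → ℂ) 1 by
      rw [show ((principal G : IrrCharacter G) : G → ℂ) g = 1 from rfl, map_one, mul_one, h g],
    Finset.sum_const, nsmul_eq_mul, Finset.card_univ, ← Nat.card_eq_fintype_card,
    inv_mul_cancel_left₀ (Nat.cast_ne_zero.2 Nat.card_pos.ne')] at h0
  exact IsIrrCharacter.apply_one_ne_zero χ.2 h0

/-- a character trivial on `H` is principal -/
theorem Crit.eq_principal (hC : Crit p H) {χ : IrrCharacter G}
    (h : ∀ a ∈ H, (χ : G → ℂ) a = (χ : G → ℂ) 1) : χ = principal G := by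
  set K := kerSubgroup (χ : G → ℂ) (isCharacter_of_irr χ.2) with hK
  haveI : K.Normal := kerSubgroup_normal (isCharacter_of_irr χ.2)
  have hle : Subgroup.normalClosure (H : Set G) ≤ K :=
    Subgroup.normalClosure_le_normal fun a ha => (mem_kerSubgroup _ a).2 (h a ha)
  rw [hC.closure_top] at hle
  exact eq_principal_of_const fun g => (mem_kerSubgroup _ g).1 (hle (Subgroup.mem_top g))

theorem Crit.mult_triv_lt (hC : Crit p H) {χ : IrrCharacter G} (hne : χ ≠ principal G) :
    mult H χ (triv H) < deg (χ : G → ℂ) := by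
  refine lt_of_le_of_ne ?_ fun h => hne (hC.eq_principal fun a ha =>
    apply_of_mult_triv hC.comm h ⟨a, ha⟩)
  rw [← sum_mult hC.comm χ]
  exact Finset.single_le_sum (f := fun s => mult H χ s) (fun _ _ => Nat.zero_le _)
    (Finset.mem_univ _)

variable {M : Ideal AlgInt}

/-- The principal block is constant on `x e`, for `e` in a signalizer commuting with `x ∈ H`. -/
theorem Crit.value (hC : Crit p H) (hM : IsPModular p M) {χ : IrrCharacter G}
    (hχ : χ ∈ principalBlock M G) {x : G} (hx : x ∈ H) (hx1 : x ≠ 1) {O : Subgroup G}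
    (hO : Sig p H O) {e : G} (he : e ∈ O) (hex : e * x = x * e) :
    (χ : G → ℂ) (x * e) = (χ : G → ℂ) x := by
  refine apply_mul_core hM (hC.exists_orderOf hx) ?_ hχ
  exact absorb hC.toHyp (hC.le_cent hx) (hC.loc x hx hx1)
    (hO.inter ((hC.le_cent hx).trans Subgroup.le_normalizer)) inf_le_right
    ⟨he, Subgroup.mem_centralizer_singleton_iff.2 hex⟩

omit [Fintype G] in
theorem dvd_orderOf [Finite G] (hH : Hyp p H) {y : G} (hy : y ∈ H) (hy1 : y ≠ 1) :
    p ∣ orderOf y := by
  obtain ⟨k, hk⟩ := hH.exists_orderOf hy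
  rw [hk]
  exact dvd_pow_self p fun h0 => hy1 (orderOf_eq_one_iff.1 (by rw [hk, h0, pow_zero]))

variable [Fintype (Subgroup.normalizer (H : Set G))]

/-- the principal block -/
noncomputable def blockFinset (M : Ideal AlgInt) (G : Type u) [Group G] [Fintype G] :
    Finset (IrrCharacter G) :=
  @Finset.filter _ (fun χ => χ ∈ principalBlock M G) (Classical.decPred _) Finset.univ

omit [Fact p.Prime] in
theorem mem_blockFinset {χ : IrrCharacter G} :
    χ ∈ blockFinset M G ↔ χ ∈ principalBlock M G := by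
  simp [blockFinset]

omit [Fact p.Prime] in
theorem principal_mem (hM : IsPModular p M) : principal G ∈ blockFinset M G :=
  mem_blockFinset.2 (mem_blockOf_self hM (principal G))

theorem Crit.orth_one (hC : Crit p H) (hM : IsPModular p M) {y : H} (hy : y ≠ 1) {r : G}
    (hr : ¬ p ∣ orderOf r) :
    ∑ χ ∈ blockFinset M G, conj ((χ : G → ℂ) y) * (χ : G → ℂ) r = 0 := by
  classical
  have h := block_orthogonality_regular hM (isPBlock_blockOf (M := M) (principal G)) hr
    (dvd_orderOf hC.toHyp y.2 fun h => hy (Subtype.ext h))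
  refine Eq.trans (Finset.sum_congr ?_ fun χ _ => mul_comm _ _) h
  ext χ
  simp only [blockFinset, Finset.mem_filter]
  rfl

theorem Crit.relation (hC : Crit p H) (hM : IsPModular p M) :
    Relation (H := H) (blockFinset M G) := by
  classical
  intro y h h' hy
  set B := blockFinset M G
  have key : ∀ g : G, ∑ χ ∈ B, conj ((χ : G → ℂ) y) *
      (∑ n : ↥(Subgroup.normalizer (H : Set G)), (χ : G → ℂ) ((g * n) * h * (g * n)⁻¹ * h') -
        ∑ n : ↥(Subgroup.normalizer (H : Set G)), (χ : G → ℂ) ((n : G) * h * (n : G)⁻¹ * h')) = 0 := by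
    intro g
    obtain ⟨O, hO, -, -, o, ho, hn⟩ := hC.decomp g
    set n₀ : ↥(Subgroup.normalizer (H : Set G)) := ⟨o⁻¹ * g, hn⟩ with hn₀
    have hre : ∀ χ : IrrCharacter G, ∑ n : ↥(Subgroup.normalizer (H : Set G)), (χ : G → ℂ) ((n : G) * h * (n : G)⁻¹ * h') =
        ∑ n : ↥(Subgroup.normalizer (H : Set G)), (χ : G → ℂ) (((n₀ * n : ↥(Subgroup.normalizer (H : Set G))) : G) * h * ((n₀ * n : ↥(Subgroup.normalizer (H : Set G))) : G)⁻¹ * h') := fun χ =>
      (Equiv.sum_comp (Equiv.mulLeft n₀) fun n : ↥(Subgroup.normalizer (H : Set G)) =>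
        (χ : G → ℂ) ((n : G) * h * (n : G)⁻¹ * h')).symm
    simp only [hre, ← Finset.sum_sub_distrib, Finset.mul_sum]
    rw [Finset.sum_comm]
    refine Finset.sum_eq_zero fun n _ => ?_
    set n₁ : ↥(Subgroup.normalizer (H : Set G)) := n₀ * n with hn₁
    set h₁ : H := conjH H n₁ h with hh₁
    set x : H := h₁ * h' with hx
    set r : G := o * h₁ * o⁻¹ * (h₁ : G)⁻¹ with hr
    have hr1 : r ∈ O := by
      rw [show r = o * ((h₁ : G) * o⁻¹ * (h₁ : G)⁻¹) by rw [hr]; group]
      exact mul_mem ho (hO.norm _ h₁.2 _ (inv_mem ho))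
    have e1 : (g * n) * h * (g * n)⁻¹ * h' = r * x := by
      rw [hr, hx, Subgroup.coe_mul, hh₁, conjH_apply, hn₁, Subgroup.coe_mul, hn₀]
      group
    have e2 : (n₁ : G) * h * (n₁ : G)⁻¹ * h' = x := by
      simp only [hx, hh₁, hn₁, Subgroup.coe_mul, conjH_apply]
    rw [e1, e2]
    by_cases hx1 : x = 1
    · rw [hx1, OneMemClass.coe_one, mul_one]
      simp only [mul_sub, Finset.sum_sub_distrib]
      rw [hC.orth_one hM hy ((Fact.out : p.Prime).coprime_iff_not_dvd.1
          (orderOf_coprime hO.cop hr1).symm),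
        hC.orth_one hM hy (by rw [orderOf_one]; exact (Fact.out : p.Prime).not_dvd_one), sub_zero]
    · refine Finset.sum_eq_zero fun χ hχ => ?_
      have hxG : (x : G) ≠ 1 := fun hh => hx1 (Subtype.ext hh)
      obtain ⟨k, -, e, he, hex, hk⟩ := exists_conj_commute hO.cop (hC.exists_orderOf x.2)
        (hO.le_normalizer x.2) hr1
      have hv : (χ : G → ℂ) (r * x) = (χ : G → ℂ) x := by
        rw [← isClassFunction_irr χ (r * x) k, hk, hex]
        exact hC.value hM (mem_blockFinset.1 hχ) x.2 hxG hO he hex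
      rw [hv, sub_self, mul_zero]
  have hG : (Nat.card G : ℂ) ≠ 0 := Nat.cast_ne_zero.2 Nat.card_pos.ne'
  have hN : (Nat.card ↥(Subgroup.normalizer (H : Set G)) : ℂ) ≠ 0 := Nat.cast_ne_zero.2 Nat.card_pos.ne'
  have hz : ∑ χ ∈ B, conj ((χ : G → ℂ) y) *
      (∑ g : G, ∑ n : ↥(Subgroup.normalizer (H : Set G)), (χ : G → ℂ) ((g * n) * h * (g * n)⁻¹ * h') -
        (Nat.card G : ℂ) * ∑ n : ↥(Subgroup.normalizer (H : Set G)), (χ : G → ℂ) ((n : G) * h * (n : G)⁻¹ * h')) = 0 := by
    have h0 := Finset.sum_eq_zero (s := (Finset.univ : Finset G)) fun g _ => key g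
    rw [Finset.sum_comm] at h0
    rw [← h0]
    refine Finset.sum_congr rfl fun χ _ => ?_
    rw [← Finset.mul_sum, Finset.sum_sub_distrib, Finset.sum_const, Finset.card_univ,
      ← Nat.card_eq_fintype_card, nsmul_eq_mul]
  have hav : ∀ χ : IrrCharacter G,
      ∑ g : G, ∑ n : ↥(Subgroup.normalizer (H : Set G)), (χ : G → ℂ) ((g * n) * h * (g * n)⁻¹ * h') =
        (Nat.card ↥(Subgroup.normalizer (H : Set G)) : ℂ) * ((Nat.card G : ℂ) * (χ : G → ℂ) h * (χ : G → ℂ) h' /
          (χ : G → ℂ) 1) := by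
    intro χ
    have hin : ∀ n : G, ∑ g : G, (χ : G → ℂ) ((g * n) * h * (g * n)⁻¹ * h') =
        (Nat.card G : ℂ) * (χ : G → ℂ) h * (χ : G → ℂ) h' / (χ : G → ℂ) 1 := fun n =>
      (Equiv.sum_comp (Equiv.mulRight n) fun g : G => (χ : G → ℂ) (g * h * g⁻¹ * h')).trans
        (Cfsg.Lib.CyclicPair.sum_conj_mul χ.2 (h : G) (h' : G))
    simp only [Finset.sum_comm (γ := G), hin, Finset.sum_const, Finset.card_univ,
      ← Nat.card_eq_fintype_card, nsmul_eq_mul]
  refine (mul_eq_zero.1 (?_ : ((Nat.card G : ℂ) * Nat.card ↥(Subgroup.normalizer (H : Set G))) * _ = 0)).resolve_left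
    (mul_ne_zero hG hN)
  rw [← hz, Finset.mul_sum]
  refine Finset.sum_congr rfl fun χ _ => ?_
  rw [hav χ]
  field_simp

theorem Crit.sum_deg_mult (hC : Crit p H) (hM : IsPModular p M) (s : IrrCharacter H) :
    ∑ χ ∈ blockFinset M G, deg (χ : G → ℂ) * mult H χ s =
      ∑ χ ∈ blockFinset M G, deg (χ : G → ℂ) * mult H χ (triv H) := by
  have hz : ∀ y : H, y ≠ 1 →
      ∑ χ ∈ blockFinset M G, conj ((χ : G → ℂ) y) * (χ : G → ℂ) 1 = 0 := fun y hy =>
    hC.orth_one hM hy (by rw [orderOf_one]; exact (Fact.out : p.Prime).not_dvd_one)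
  have h1 := sum_mult_eq hC.comm _ (fun χ => (χ : G → ℂ) 1) hz s
  have h2 := sum_mult_eq hC.comm _ (fun χ => (χ : G → ℂ) 1) hz (triv H)
  rw [← h2] at h1
  have h3 := mul_left_cancel₀ (Nat.cast_ne_zero.2 (Nat.card_pos (α := H)).ne') h1
  simp only [irr_apply_one_eq_deg] at h3
  simp only [Nat.mul_comm (deg _)]
  exact_mod_cast h3

omit [Fintype (Subgroup.normalizer (H : Set G))] in
theorem mult_principal (hab : ∀ x ∈ H, ∀ y ∈ H, x * y = y * x) (s : IrrCharacter H) :
    mult H (principal G) (triv H) = 1 ∧ (s ≠ triv H → mult H (principal G) s = 0) := by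
  have e : (fun h : H => ((principal G : IrrCharacter G) : G → ℂ) h) = (triv H : H → ℂ) := rfl
  constructor
  · have h1 := classInner_mult H (principal G) (triv H)
    rw [e, classInner_irr_self] at h1
    exact_mod_cast h1.symm
  · intro hs
    have h1 := classInner_mult H (principal G) s
    rw [e, classInner_irr_ne (fun h => hs h.symm)] at h1
    exact_mod_cast h1.symm

end Cfsg.Lib.ExtOdd
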