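import Mathlib
import Cfsg.Agent.ExtClosedOdd.Setup
import Cfsg.Agent.Chars.IrrTools

/-!
When all nontrivial linear characters of `H` are conjugate: bounds on the multiplicities.
-/

set_option autoImplicit false
set_option linter.unusedSectionVars false
set_option linter.style.haveILetI false

namespace Cfsg.Lib.ExtOdd

open Cfsg.Lib.Chars Cfsg.Lib.Blocks
open scoped ComplexConjugate

universe u

variable {G : Type u} [Group G] [Fintype G] {p : ℕ} [Fact p.Prime] {H : Subgroup G} [Fintype H]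
  [Fintype (Subgroup.normalizer (H : Set G))]

/-- all nontrivial characters of `H` are conjugate -/
def OneClass (H : Subgroup G) [Fintype H] (x₀ : IrrCharacter H) : Prop :=
  x₀ ≠ triv H ∧ ∀ s : IrrCharacter H, s ≠ triv H → Rel H x₀ s

omit [Fact p.Prime] in
theorem OneClass.mult_eq {x₀ : IrrCharacter H} (h : OneClass H x₀) (χ : IrrCharacter G)
    {s : IrrCharacter H} (hs : s ≠ triv H) : mult H χ s = mult H χ x₀ :=
  Rel.mult_eq H (h.2 s hs) χ

omit [Fact p.Prime] in
theorem OneClass.deg_eq {x₀ : IrrCharacter H} (h : OneClass H x₀)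
    (hab : ∀ x ∈ H, ∀ y ∈ H, x * y = y * x) (χ : IrrCharacter G) :
    deg (χ : G → ℂ) = mult H χ (triv H) + (Nat.card H - 1) * mult H χ x₀ := by
  classical
  rw [← sum_mult hab χ, ← Finset.add_sum_erase _ _ (Finset.mem_univ (triv H)),
    Finset.sum_congr rfl fun s hs => h.mult_eq χ (Finset.ne_of_mem_erase hs), Finset.sum_const,
    Finset.card_erase_of_mem (Finset.mem_univ _), Finset.card_univ, card_chars hab, smul_eq_mul]

omit [Fact p.Prime] in
theorem OneClass.apply_eq {x₀ : IrrCharacter H} (h : OneClass H x₀)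
    (hab : ∀ x ∈ H, ∀ y ∈ H, x * y = y * x) (χ : IrrCharacter G) {a : H} (ha : a ≠ 1) :
    (χ : G → ℂ) a = (mult H χ (triv H) : ℂ) - mult H χ x₀ := by
  classical
  have hs := sum_chars hab a
  rw [if_neg ha, ← Finset.add_sum_erase _ _ (Finset.mem_univ (triv H)), triv_apply] at hs
  rw [apply_eq_sum_mult H χ a, ← Finset.add_sum_erase _ _ (Finset.mem_univ (triv H)), triv_apply,
    Finset.sum_congr rfl fun s hs => by rw [h.mult_eq χ (Finset.ne_of_mem_erase hs)],
    ← Finset.mul_sum]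
  linear_combination (mult H χ x₀ : ℂ) * hs

theorem Crit.mult_pos (hC : Crit p H) {x₀ : IrrCharacter H} (h : OneClass H x₀)
    {χ : IrrCharacter G} (hne : χ ≠ principal G) : 0 < mult H χ x₀ := by
  have h1 := hC.mult_triv_lt hne
  rw [h.deg_eq hC.comm χ] at h1
  by_contra h0
  rw [not_lt, Nat.le_zero] at h0
  rw [h0, mul_zero, add_zero] at h1
  exact lt_irrefl _ h1

/-- the chosen element of a coset of the normalizer -/
noncomputable def kap (hH : Hyp p H) (β : G ⧸ Subgroup.normalizer (H : Set G)) : G :=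
  (hH.decomp β.out).choose_spec.2.2.2.choose

theorem kap_spec (hH : Hyp p H) (β : G ⧸ Subgroup.normalizer (H : Set G)) :
    (∃ O, Sig p H O ∧ kap hH β ∈ O) ∧
      (QuotientGroup.mk (kap hH β) : G ⧸ Subgroup.normalizer (H : Set G)) = β := by
  have h := (hH.decomp β.out).choose_spec.2.2.2.choose_spec
  refine ⟨⟨_, (hH.decomp β.out).choose_spec.1, h.1⟩, ?_⟩
  conv_rhs => rw [← β.out_eq]
  exact QuotientGroup.eq.2 h.2

/-- an element of a coset lying in a signalizer is unique -/
theorem sig_unique (hH : Hyp p H) {O O' : Subgroup G} (hO : Sig p H O) (hO' : Sig p H O') {k k' : G}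
    (hk : k ∈ O) (hk' : k' ∈ O') (hkk : k⁻¹ * k' ∈ Subgroup.normalizer (H : Set G)) : k = k' := by
  have hfix : ∀ {P : Subgroup G}, Sig p H P → ∀ u ∈ P, u ∈ Subgroup.normalizer (H : Set G) → u = 1 := by
    intro P hP u hu hn
    refine hP.free u hu fun h hh => ?_
    have h1 : h * u * h⁻¹ * u⁻¹ ∈ P := mul_mem (hP.norm h hh u hu) (inv_mem hu)
    have h2 : h * u * h⁻¹ * u⁻¹ ∈ H := by
      rw [show h * u * h⁻¹ * u⁻¹ = h * (u * h⁻¹ * u⁻¹) by group]
      exact mul_mem hh ((Subgroup.mem_normalizer_iff.1 hn _).1 (inv_mem hh))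
    have h3 : h * u * h⁻¹ * u⁻¹ = 1 := by
      obtain ⟨s, hs⟩ := hH.pow_eq_one h2
      exact eq_one_of_pElement hs (orderOf_coprime hP.cop h1)
    rwa [mul_inv_eq_one, mul_inv_eq_iff_eq_mul] at h3
  obtain ⟨P, hP, hPX, -, o, ho, hn⟩ := hH.decomp k
  have hin : ∀ {Q : Subgroup G}, Sig p H Q →
      H ⊔ H.map (MulAut.conj k).toMonoidHom ≤ H ⊔ Q → o ∈ Q := by
    intro Q hQ hle
    have hm := hle (hPX ho)
    rw [← SetLike.mem_coe, Subgroup.coe_mul_of_left_le_normalizer_right H Q hQ.le_normalizer] at hm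
    obtain ⟨h, hh, e, he, hhe⟩ := hm
    obtain ⟨s, hs⟩ := hH.pow_eq_one hh
    have h1 : h = 1 := eq_one_of_mul hQ.cop (hQ.le_normalizer hh) he hs
      (by rw [show h * e = o from hhe]; exact orderOf_coprime hP.cop ho)
    have hhe' : h * e = o := hhe
    rw [h1, one_mul] at hhe'
    rwa [← hhe']
  have hconj : ∀ {Q : Subgroup G}, Sig p H Q → ∀ q ∈ Q,
      H.map (MulAut.conj q).toMonoidHom ≤ H ⊔ Q := by
    rintro Q hQ q hq _ ⟨a, ha, rfl⟩
    exact mul_mem (mul_mem (Subgroup.mem_sup_right hq) (Subgroup.mem_sup_left ha))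
      (inv_mem (Subgroup.mem_sup_right hq))
  have hoO : o ∈ O := hin hO (sup_le le_sup_left (hconj hO k hk))
  have hok : o = k := inv_mul_eq_one.1 (hfix hO _ (mul_mem (inv_mem hoO) hk) hn)
  have he : H.map (MulAut.conj k).toMonoidHom ≤ H ⊔ O' := by
    rintro _ ⟨a, ha, rfl⟩
    refine hconj hO' k' hk' ⟨(k⁻¹ * k')⁻¹ * a * (k⁻¹ * k'), ?_, ?_⟩
    · have := (Subgroup.mem_normalizer_iff.1 (inv_mem hkk) a).1 ha
      rwa [inv_inv] at this
    · simp only [MulEquiv.coe_toMonoidHom, MulAut.conj_apply]; group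
  have hkO' : k ∈ O' := hok ▸ hin hO' (sup_le le_sup_left he)
  exact inv_mul_eq_one.1 (hfix hO' _ (mul_mem (inv_mem hkO') hk') hkk)

/-- the bound for a subgroup of prime order -/
theorem Crit.bound_prime (hC : Crit p H) (hp2 : p ≠ 2) {x₀ : IrrCharacter H} (h1c : OneClass H x₀)
    (hcard : Nat.card H = p) (χ : IrrCharacter G) (hne : χ ≠ principal G) :
    deg (χ : G → ℂ) ≤ (Nat.card H - 1) * Nat.card H * mult H χ x₀ := by
  classical
  set n := Nat.card H - 1 with hn
  set ms := mult H χ x₀ with hms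
  set m0 := mult H χ (triv H) with hm0
  have hp3 : 3 ≤ p := by
    have := (Fact.out : p.Prime).two_le
    omega
  have hn2 : 2 ≤ n := by omega
  have hms0 : 0 < ms := hC.mult_pos h1c hne
  have hdeg := h1c.deg_eq hC.comm χ
  haveI : Nontrivial H := Finite.one_lt_card_iff_nontrivial.1 (by omega)
  obtain ⟨h, hh⟩ := exists_ne (1 : H)
  -- centralisers of nontrivial elements normalise `H`
  have hcent : ∀ a : H, a ≠ 1 → ∀ c : G, c * a = a * c → c ∈ Subgroup.normalizer (H : Set G) := by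
    intro a ha c hc
    refine mem_normalizer_of_fix fun b hb => ?_
    have hgen : (⟨b, hb⟩ : H) ∈ Subgroup.zpowers a := mem_zpowers_of_prime_card hcard ha
    obtain ⟨i, hi⟩ := hgen
    rw [show b = (a : G) ^ i from (congrArg Subtype.val hi).symm]
    exact ((show Commute c (a : G) from hc).zpow_right i).symm.eq
  -- `(coset, element of the normalizer)` parametrises `G`
  let κ := kap hC.toHyp
  let Φ : (G ⧸ Subgroup.normalizer (H : Set G)) × Subgroup.normalizer (H : Set G) → G :=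
    fun q => κ q.1 * q.2
  have hΦ : Function.Bijective Φ := by
    constructor
    · rintro ⟨β, a⟩ ⟨γ, b⟩ he
      have hβ : β = γ := by
        rw [← (kap_spec hC.toHyp β).2, ← (kap_spec hC.toHyp γ).2, QuotientGroup.eq]
        have : (kap hC.toHyp β)⁻¹ * kap hC.toHyp γ = (a : G) * (b : G)⁻¹ := by
          have he' : kap hC.toHyp β * a = kap hC.toHyp γ * b := he
          rw [inv_mul_eq_iff_eq_mul, ← mul_assoc, he', mul_inv_cancel_right]
        rw [this]
        exact mul_mem a.2 (inv_mem b.2)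
      subst hβ
      exact Prod.ext rfl (Subtype.ext (mul_left_cancel he))
    · intro g
      refine ⟨⟨(g : G ⧸ Subgroup.normalizer (H : Set G)),
        ⟨_, QuotientGroup.eq.1 (kap_spec hC.toHyp g).2⟩⟩, ?_⟩
      show κ _ * ((κ _)⁻¹ * g) = g
      rw [mul_inv_cancel_left]
  -- commutators permute the chosen elements
  have hperm : ∀ a : H, a ≠ 1 → ∀ F : G → ℂ,
      ∑ β, F (κ β * a * (κ β)⁻¹ * (a : G)⁻¹) = ∑ β, F (κ β) := by
    intro a ha F
    have hsig : ∀ β, ∃ O, Sig p H O ∧ κ β * a * (κ β)⁻¹ * (a : G)⁻¹ ∈ O := fun β => by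
      obtain ⟨O, hO, hk⟩ := (kap_spec hC.toHyp β).1
      refine ⟨O, hO, ?_⟩
      rw [show κ β * a * (κ β)⁻¹ * (a : G)⁻¹ = κ β * ((a : G) * (κ β)⁻¹ * (a : G)⁻¹) by group]
      exact mul_mem hk (hO.norm _ a.2 _ (inv_mem hk))
    let π : (G ⧸ Subgroup.normalizer (H : Set G)) → G ⧸ Subgroup.normalizer (H : Set G) :=
      fun β => ((κ β * a * (κ β)⁻¹ * (a : G)⁻¹ : G) : G ⧸ Subgroup.normalizer (H : Set G))
    have hπ : ∀ β, κ (π β) = κ β * a * (κ β)⁻¹ * (a : G)⁻¹ := fun β => by
      obtain ⟨O, hO, hr⟩ := hsig β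
      obtain ⟨O', hO', hk'⟩ := (kap_spec hC.toHyp (π β)).1
      exact sig_unique hC.toHyp hO' hO hk' hr (QuotientGroup.eq.1 (kap_spec hC.toHyp (π β)).2)
    have hinj : Function.Injective π := by
      intro β γ he
      have h1 : κ β * a * (κ β)⁻¹ * (a : G)⁻¹ = κ γ * a * (κ γ)⁻¹ * (a : G)⁻¹ := by
        rw [← hπ, ← hπ, he]
      rw [mul_left_inj] at h1
      rw [← (kap_spec hC.toHyp β).2, ← (kap_spec hC.toHyp γ).2, QuotientGroup.eq]
      refine hcent a ha _ ?_
      calc (κ β)⁻¹ * κ γ * a = (κ β)⁻¹ * (κ γ * a * (κ γ)⁻¹) * κ γ := by group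
        _ = (a : G) * ((κ β)⁻¹ * κ γ) := by rw [← h1]; group
    refine Eq.trans ?_ ((Equiv.ofBijective π hinj.bijective_of_finite).sum_comp fun γ => F (κ γ))
    exact Finset.sum_congr rfl fun β _ => by rw [Equiv.ofBijective_apply, hπ]
  set r : ℂ := (m0 : ℂ) - ms with hr
  set S : ℂ := ∑ β, ∑ k : H, conj ((x₀ : H → ℂ) k) * (χ : G → ℂ) (κ β * k) with hS
  set W : ℂ := ∑ m : Subgroup.normalizer (H : Set G), (x₀ : H → ℂ) (conjH H m h) with hW
  -- first evaluation
  have e1 : ∑ g : G, ∑ h' : H, conj ((x₀ : H → ℂ) h') * (χ : G → ℂ) (g * h * g⁻¹ * h') =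
      (Nat.card G : ℂ) * r * ((Nat.card H : ℂ) * ms) / (χ : G → ℂ) 1 := by
    rw [Finset.sum_comm, ← sum_mul_conj_mult H χ x₀, Finset.mul_sum, Finset.sum_div]
    refine Finset.sum_congr rfl fun h' _ => ?_
    rw [← Finset.mul_sum, Cfsg.Lib.CyclicPair.sum_conj_mul χ.2, h1c.apply_eq hC.comm χ hh, hr]
    ring
  -- second evaluation
  have e2 : ∑ g : G, ∑ h' : H, conj ((x₀ : H → ℂ) h') * (χ : G → ℂ) (g * h * g⁻¹ * h') = W * S := by
    rw [← (Equiv.ofBijective Φ hΦ).sum_comp, Fintype.sum_prod_type, Finset.sum_comm, hW,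
      Finset.sum_mul]
    refine Finset.sum_congr rfl fun m _ => ?_
    set h₁ := conjH H m h with hh₁
    have hh₁1 : h₁ ≠ 1 := fun he => hh (by simpa [hh₁] using he)
    rw [hS, ← hperm h₁ hh₁1 (fun y => ∑ k : H, conj ((x₀ : H → ℂ) k) * (χ : G → ℂ) (y * k)),
      Finset.mul_sum]
    refine Finset.sum_congr rfl fun β _ => ?_
    rw [Finset.mul_sum, ← Equiv.sum_comp (Equiv.mulLeft h₁⁻¹)]
    refine Finset.sum_congr rfl fun k _ => ?_
    simp only [Equiv.coe_mulLeft, Equiv.ofBijective_apply, Φ]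
    rw [apply_mul hC.comm, map_mul, IsCharacter.conj_inv (isCharacter_of_irr x₀.2),
      Complex.conj_conj, show (κ β * m) * h * (κ β * m)⁻¹ * ((h₁⁻¹ * k : H) : G) =
        κ β * h₁ * (κ β)⁻¹ * (h₁ : G)⁻¹ * k by
        rw [Subgroup.coe_mul, InvMemClass.coe_inv, hh₁, conjH_apply]; group]
    ring
  -- the sum over the normalizer
  have e3 : (n : ℂ) * W = -(Nat.card (Subgroup.normalizer (H : Set G)) : ℂ) := by
    have hsame : ∀ t : IrrCharacter H, t ≠ triv H →
        ∑ m : Subgroup.normalizer (H : Set G), (t : H → ℂ) (conjH H m h) = W := by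
      intro t ht
      obtain ⟨n₀, rfl⟩ := h1c.2 t ht
      rw [hW]
      refine Fintype.sum_equiv (Equiv.mulLeft n₀) _ _ fun m => ?_
      show (tw H n₀ x₀ : H → ℂ) (conjH H m h) = (x₀ : H → ℂ) (conjH H (n₀ * m) h)
      rw [tw_apply]
      refine congrArg (x₀ : H → ℂ) (Subtype.ext ?_)
      simp only [conjH_apply, Subgroup.coe_mul, mul_inv_rev]
      group
    have hcnt : ∑ t ∈ (Finset.univ : Finset (IrrCharacter H)).erase (triv H),
        ∑ m : Subgroup.normalizer (H : Set G), (t : H → ℂ) (conjH H m h) = (n : ℂ) * W := by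
      rw [Finset.sum_congr rfl fun t ht => hsame t (Finset.ne_of_mem_erase ht), Finset.sum_const,
        Finset.card_erase_of_mem (Finset.mem_univ _), Finset.card_univ, card_chars hC.comm,
        nsmul_eq_mul]
    rw [← hcnt, Finset.sum_comm, Nat.card_eq_fintype_card]
    have hm : ∀ m : Subgroup.normalizer (H : Set G),
        ∑ t ∈ (Finset.univ : Finset (IrrCharacter H)).erase (triv H), (t : H → ℂ) (conjH H m h) =
          -1 := by
      intro m
      have hs := sum_chars hC.comm (conjH H m h)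
      rw [if_neg (fun he => hh (by simpa using he)),
        ← Finset.add_sum_erase _ _ (Finset.mem_univ (triv H)), triv_apply] at hs
      linear_combination hs
    rw [Finset.sum_congr rfl fun m _ => hm m, Finset.sum_const, Finset.card_univ, nsmul_eq_mul,
      mul_neg, mul_one]
  -- the norm of `S`
  have hSn : ‖S‖ ≤ (Nat.card (G ⧸ Subgroup.normalizer (H : Set G)) : ℝ) *
      ((Nat.card H : ℝ) * ms) := by
    refine (_root_.norm_sum_le _ _).trans ((Finset.sum_le_sum fun β _ =>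
      norm_cross_le hC.comm χ.2 x₀ (κ β) (classInner_mult H χ x₀)).trans ?_)
    rw [Finset.sum_const, Finset.card_univ, ← Nat.card_eq_fintype_card, nsmul_eq_mul]
  have hd0 : (0 : ℝ) < deg (χ : G → ℂ) := Nat.cast_pos.2 (deg_irr_pos χ)
  have e4 : (n : ℂ) * ((Nat.card G : ℂ) * r * ((Nat.card H : ℂ) * ms)) =
      -(Nat.card (Subgroup.normalizer (H : Set G)) : ℂ) * S * (deg (χ : G → ℂ) : ℂ) := by
    rw [irr_apply_one_eq_deg] at e1
    have hdne : ((deg (χ : G → ℂ) : ℕ) : ℂ) ≠ 0 := Nat.cast_ne_zero.2 (deg_irr_pos χ).ne'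
    rw [← e3, mul_assoc (n : ℂ) W S, ← e2, e1]
    field_simp
  have h5 := congrArg norm e4
  rw [norm_mul, norm_mul, norm_mul, norm_mul, norm_mul, norm_mul, norm_neg, Complex.norm_natCast,
    Complex.norm_natCast, Complex.norm_natCast, Complex.norm_natCast, Complex.norm_natCast,
    Complex.norm_natCast] at h5
  have hrr : r = (((m0 : ℝ) - ms : ℝ) : ℂ) := by rw [hr]; push_cast; ring
  rw [hrr, Complex.norm_real, Real.norm_eq_abs] at h5
  have hGN : (Nat.card G : ℝ) = Nat.card (G ⧸ Subgroup.normalizer (H : Set G)) *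
      Nat.card (Subgroup.normalizer (H : Set G)) := by
    rw [← Nat.cast_mul, ← Subgroup.card_eq_card_quotient_mul_card_subgroup]
  have hNpos : (0 : ℝ) ≤ Nat.card (Subgroup.normalizer (H : Set G)) := Nat.cast_nonneg _
  have hfin : (n : ℝ) * |(m0 : ℝ) - ms| ≤ deg (χ : G → ℂ) := by
    have hle := mul_le_mul_of_nonneg_left hSn hNpos
    have hpos : (0 : ℝ) < (Nat.card G : ℝ) * ((Nat.card H : ℝ) * ms) := by
      have h1 : 0 < Nat.card G := Nat.card_pos
      have h2 : 0 < Nat.card H := Nat.card_pos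
      positivity
    refine le_of_mul_le_mul_right ?_ hpos
    calc (n : ℝ) * |(m0 : ℝ) - ms| * ((Nat.card G : ℝ) * ((Nat.card H : ℝ) * ms))
        = (Nat.card (Subgroup.normalizer (H : Set G)) : ℝ) * ‖S‖ * deg (χ : G → ℂ) := by
          rw [← h5]; ring
      _ ≤ _ := by
          rw [hGN]
          have := mul_le_mul_of_nonneg_right hle hd0.le
          linarith
  have habs : (n : ℝ) * ((m0 : ℝ) - ms) ≤ deg (χ : G → ℂ) :=
    le_trans (mul_le_mul_of_nonneg_left (le_abs_self _) (Nat.cast_nonneg _)) hfin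
  rw [hdeg] at habs ⊢
  rw [← hn] at habs ⊢
  push_cast at habs
  have hN0 : Nat.card H = n + 1 := by omega
  rw [hN0]
  have h6 : (n : ℝ) * m0 ≤ m0 + 2 * n * ms := by nlinarith
  have h7 : n * m0 ≤ m0 + 2 * n * ms := by exact_mod_cast h6
  have h8 : 2 * m0 ≤ n * m0 := Nat.mul_le_mul_right m0 hn2
  have h9 : 2 * n * ms ≤ n * n * ms :=
    Nat.mul_le_mul_right ms (Nat.mul_le_mul_right n hn2)
  nlinarith

/-- conjugation carries cores of centralisers to cores of centralisers -/
theorem conj_core_centralizer (a n : G) {x : G}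
    (hx : x ∈ core p (Subgroup.centralizer ({a} : Set G))) :
    n * x * n⁻¹ ∈ core p (Subgroup.centralizer ({n * a * n⁻¹} : Set G)) := by
  set K := Subgroup.centralizer ({a} : Set G)
  set K' := Subgroup.centralizer ({n * a * n⁻¹} : Set G)
  have hmem : ∀ y ∈ K, n * y * n⁻¹ ∈ K' := fun y hy => Subgroup.mem_centralizer_singleton_iff.2 (by
    rw [show n * y * n⁻¹ * (n * a * n⁻¹) = n * (y * a) * n⁻¹ by group,
      Subgroup.mem_centralizer_singleton_iff.1 hy]
    group)
  have hback : ∀ y ∈ K', n⁻¹ * y * n ∈ K := fun y hy => Subgroup.mem_centralizer_singleton_iff.2 (by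
    rw [show n⁻¹ * y * n * a = n⁻¹ * (y * (n * a * n⁻¹)) * n by group,
      Subgroup.mem_centralizer_singleton_iff.1 hy]
    group)
  set C' := (core p K).map (MulAut.conj n).toMonoidHom with hC'
  have hle : C' ≤ K' := by
    rintro _ ⟨y, hy, rfl⟩
    exact hmem y (core_le K hy)
  haveI : (C'.subgroupOf K').Normal := by
    refine ⟨fun z hz k => ?_⟩
    rw [Subgroup.mem_subgroupOf] at hz ⊢
    obtain ⟨y, hy, he⟩ := hz
    refine ⟨n⁻¹ * (k : G) * n * y * (n⁻¹ * (k : G) * n)⁻¹,
      conj_mem_core (hback _ k.2) hy, ?_⟩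
    simp only [MulEquiv.coe_toMonoidHom, MulAut.conj_apply, Subgroup.coe_mul,
      InvMemClass.coe_inv] at he ⊢
    rw [← he]
    group
  have hcard : (Nat.card (C'.subgroupOf K')).Coprime p := by
    rw [Nat.card_congr (Subgroup.subgroupOfEquivOfLe hle).toEquiv, hC',
      Subgroup.card_map_of_injective (MulEquiv.injective _)]
    exact coprime_core K
  refine ⟨⟨n * x * n⁻¹, hle ⟨x, hx, rfl⟩⟩,
    Cfsg.Lib.Components.le_pPrimeCore hcard ?_, rfl⟩
  exact Subgroup.mem_subgroupOf.2 ⟨x, hx, rfl⟩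

/-- the fixed space of the core of a centraliser is large -/
theorem Crit.fixed_core (hC : Crit p H) {M : Ideal AlgInt} (hM : IsPModular p M)
    {x₀ : IrrCharacter H} (h1c : OneClass H x₀) (hexp : ∀ h ∈ H, h ^ p = 1) {a : H} (ha : a ≠ 1)
    {χ : IrrCharacter G} (hχ : χ ∈ principalBlock M G)
    (θ : Subgroup G) (hθdef : θ = core p (Subgroup.centralizer ({(a : G)} : Set G))) [Fintype θ]
    {mθ : ℕ} (hmθ : classInner (fun e : θ => (χ : G → ℂ) e) (fun _ => 1) = mθ) :
    deg (χ : G → ℂ) ≤ mθ + Nat.card H * mult H χ x₀ := by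
  classical
  have hθK : ∀ e : θ, (e : G) ∈ core p (Subgroup.centralizer ({(a : G)} : Set G)) := fun e =>
    hθdef ▸ e.2
  set Z := Subgroup.zpowers (a : G)
  haveI := Fintype.ofFinite Z
  have hap : orderOf (a : G) = p :=
    orderOf_eq_prime (hexp _ a.2) fun h => ha (Subtype.ext h)
  have hZH : Z ≤ H := Subgroup.zpowers_le.2 a.2
  have hcomm : ∀ (e : θ) (t : Z), Commute (θ.subtype e) (Z.subtype t) := by
    rintro e ⟨_, i, rfl⟩
    exact (show Commute (e : G) (a : G) from
      Subgroup.mem_centralizer_singleton_iff.1 (core_le _ (hθK e))).zpow_right i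
  let π : θ × Z →* G := θ.subtype.noncommCoprod Z.subtype hcomm
  set r : ℂ := (mult H χ (triv H) : ℂ) - mult H χ x₀ with hr
  have hval : ∀ (e : θ) (t : Z), t ≠ 1 → (χ : G → ℂ) (π (e, t)) = r := by
    intro e t ht
    have htH : (t : G) ∈ H := hZH t.2
    have ht1 : (⟨t, htH⟩ : H) ≠ 1 := fun h => ht (Subtype.ext (congrArg (fun z : H => (z : G)) h))
    have hZt : Subgroup.zpowers (t : G) = Z := by
      refine Subgroup.eq_of_le_of_card_ge (Subgroup.zpowers_le.2 t.2) ?_
      rw [Nat.card_zpowers, Nat.card_zpowers, hap,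
        orderOf_eq_prime (hexp _ htH) fun h => ht (Subtype.ext h)]
    have hcz : Subgroup.centralizer ({(t : G)} : Set G) = Subgroup.centralizer ({(a : G)} : Set G) := by
      rw [← Cfsg.Lib.Coprime.centralizer_zpowers, ← Cfsg.Lib.Coprime.centralizer_zpowers, hZt]
    show (χ : G → ℂ) ((e : G) * (t : G)) = r
    rw [show (e : G) * (t : G) = (t : G) * e from (hcomm e t).eq,
      apply_mul_core hM (hC.exists_orderOf htH) (hcz.symm ▸ hθK e) hχ,
      hr, ← h1c.apply_eq hC.comm χ ht1]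
  obtain ⟨d, ρ, hρ, hρχ⟩ := χ.2
  haveI : Invertible (Nat.card (θ × Z) : ℂ) :=
    invertibleOfNonzero (by exact_mod_cast Nat.card_pos.ne')
  haveI : Invertible (Nat.card θ : ℂ) :=
    invertibleOfNonzero (by exact_mod_cast Nat.card_pos.ne')
  have hi1 := Representation.card_inv_mul_sum_char_eq_finrank
    (MonoidHom.comp ρ π : Representation ℂ (θ × Z) _)
  have hi2 := Representation.card_inv_mul_sum_char_eq_finrank
    (MonoidHom.comp ρ θ.subtype : Representation ℂ θ _)
  set q := Module.finrank ℂ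
    (Representation.invariants (MonoidHom.comp ρ π : Representation ℂ (θ × Z) _))
  set q' := Module.finrank ℂ
    (Representation.invariants (MonoidHom.comp ρ θ.subtype : Representation ℂ θ _))
  have hqq : q ≤ q' := Submodule.finrank_mono fun v hv =>
    (Representation.mem_invariants _ v).2 fun e => by
      have := (Representation.mem_invariants _ v).1 hv (e, 1)
      simpa [π] using this
  have hq' : (q' : ℂ) = mθ := by
    rw [← hi2, ← hmθ, classInner_def]
    simp only [map_one, mul_one, ← hρχ]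
    rfl
  have hZp : Nat.card Z = p := by rw [Nat.card_zpowers, hap]
  have hsum : (q : ℂ) * (Nat.card θ * p) =
      (Nat.card θ : ℂ) * mθ + (Nat.card θ : ℂ) * ((p - 1 : ℕ) * r) := by
    rw [← hi1]
    have h1 : ∑ x : θ × Z,
        Representation.character (MonoidHom.comp ρ π : Representation ℂ (θ × Z) _) x =
        ∑ e : θ, ((χ : G → ℂ) e + ((p - 1 : ℕ) : ℂ) * r) := by
      rw [Fintype.sum_prod_type]
      refine Finset.sum_congr rfl fun e _ => ?_
      rw [← Finset.add_sum_erase _ _ (Finset.mem_univ (1 : Z)),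
        Finset.sum_congr rfl fun t ht => show Representation.character
          (MonoidHom.comp ρ π : Representation ℂ (θ × Z) _) (e, t) = r by
            rw [← hval e t (Finset.ne_of_mem_erase ht), ← hρχ]; rfl,
        Finset.sum_const, Finset.card_erase_of_mem (Finset.mem_univ _), Finset.card_univ,
        ← Nat.card_eq_fintype_card, hZp, nsmul_eq_mul]
      congr 1
      rw [← hρχ]
      show ρ.character (π (e, 1)) = ρ.character e
      simp [π]
    rw [h1, Finset.sum_add_distrib, Finset.sum_const, Finset.card_univ, ← Nat.card_eq_fintype_card,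
      nsmul_eq_mul, Nat.card_prod, hZp, ← hmθ, classInner_def]
    simp only [map_one, mul_one]
    have hθ : (Nat.card θ : ℂ) ≠ 0 := Nat.cast_ne_zero.2 Nat.card_pos.ne'
    have hpC : (p : ℂ) ≠ 0 := Nat.cast_ne_zero.2 (Fact.out : p.Prime).ne_zero
    push_cast
    field_simp
  have hθ : (Nat.card θ : ℂ) ≠ 0 := Nat.cast_ne_zero.2 Nat.card_pos.ne'
  have h2 : (q : ℂ) * p = mθ + ((p - 1 : ℕ) : ℂ) * r := by
    refine mul_left_cancel₀ hθ ?_
    linear_combination hsum
  have hp1 : p = (p - 1) + 1 := (Nat.sub_add_cancel (Fact.out : p.Prime).one_le).symm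
  have hq'' : q' = mθ := by exact_mod_cast hq'
  set l := p - 1
  have hl : 0 < l := by have := (Fact.out : p.Prime).two_le; omega
  have h3 : (q * p + l * mult H χ x₀ : ℕ) = mθ + l * mult H χ (triv H) := by
    apply Nat.cast_injective (R := ℂ)
    push_cast
    rw [hr] at h2
    linear_combination h2
  have h4 : q * p ≤ mθ * p := Nat.mul_le_mul_right p (hq''.symm ▸ hqq)
  have h5 : l * mult H χ (triv H) ≤ l * (mθ + mult H χ x₀) := by
    rw [hp1, Nat.mul_add, Nat.mul_one] at h4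
    rw [hp1] at h3
    nlinarith
  have h6 := Nat.le_of_mul_le_mul_left h5 hl
  rw [h1c.deg_eq hC.comm χ]
  have : 0 < Nat.card H := Nat.card_pos
  have h7 : (Nat.card H - 1) * mult H χ x₀ + mult H χ x₀ = Nat.card H * mult H χ x₀ := by
    rw [← Nat.succ_mul]; congr 1; omega
  omega

/-- the bound for a non-cyclic subgroup -/
theorem Crit.bound_noncyclic (hC : Crit p H) {M : Ideal AlgInt} (hM : IsPModular p M)
    {x₀ : IrrCharacter H} (h1c : OneClass H x₀) (hexp : ∀ h ∈ H, h ^ p = 1) (hnc : ¬ IsCyclic H)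
    {χ : IrrCharacter G} (hχ : χ ∈ principalBlock M G) (hne : χ ≠ principal G) :
    deg (χ : G → ℂ) ≤ (Nat.card H - 1) * Nat.card H * mult H χ x₀ := by
  classical
  by_contra hlt
  rw [not_le] at hlt
  set S := (Finset.univ : Finset H).erase 1 with hS
  let θ : H → Subgroup G := fun a => core p (Subgroup.centralizer ({(a : G)} : Set G))
  haveI : ∀ a, Fintype (θ a) := fun a => Fintype.ofFinite _
  have hm : ∀ a : H, ∃ m : ℕ,
      classInner (fun e : θ a => (χ : G → ℂ) e) (fun _ => 1) = m := fun a =>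
    IsCharacter.exists_mult (IsCharacter.restrict (isCharacter_of_irr χ.2) (θ a))
      isIrrCharacter_one
  choose m hm using hm
  set Θ := ⨆ a ∈ S, θ a with hΘ
  have hmemΘ : ∀ a : H, a ≠ 1 → θ a ≤ Θ := fun a ha =>
    le_iSup₂_of_le a (Finset.mem_erase.2 ⟨ha, Finset.mem_univ _⟩) le_rfl
  -- signalizers lie in `Θ`
  haveI : IsMulCommutative H := ⟨⟨fun x y => Subtype.ext (hC.comm x x.2 y y.2)⟩⟩
  have hsig : ∀ O, Sig p H O → O ≤ Θ := by
    intro O hO
    rw [← Cfsg.Lib.Coprime.centralizerJoin_eq hnc hO.le_normalizer (card_coprime hC.pgrp hO.cop)]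
    refine iSup₂_le fun a ha => ?_
    exact (absorb hC.toHyp (hC.le_cent ha.1) (hC.loc a ha.1 ha.2)
      (hO.inter ((hC.le_cent ha.1).trans Subgroup.le_normalizer)) inf_le_right).trans
      (hmemΘ ⟨a, ha.1⟩ fun h => ha.2 (congrArg Subtype.val h))
  have hnorm : ∀ n ∈ Subgroup.normalizer (H : Set G), ∀ x ∈ Θ, n * x * n⁻¹ ∈ Θ := by
    intro n hn
    suffices Θ ≤ Θ.comap (MulAut.conj n).toMonoidHom from fun x hx => this hx
    refine iSup₂_le fun a ha x hx => ?_
    have hb : n * (a : G) * n⁻¹ ∈ H := (Subgroup.mem_normalizer_iff.1 hn _).1 a.2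
    refine hmemΘ ⟨_, hb⟩ ?_ (conj_core_centralizer (a : G) n hx)
    exact fun h => Finset.ne_of_mem_erase ha
      (Subtype.ext (conj_eq_one_iff.1 (congrArg Subtype.val h)))
  have hgen : ∀ g : G, ∃ o ∈ Θ, o⁻¹ * g ∈ Subgroup.normalizer (H : Set G) := fun g => by
    obtain ⟨O, hO, -, -, o, ho, hn⟩ := hC.decomp g
    exact ⟨o, hsig O hO ho, hn⟩
  have hΘn : Θ.Normal := ⟨fun x hx g => by
    obtain ⟨o, ho, hn⟩ := hgen g
    rw [show g * x * g⁻¹ = o * ((o⁻¹ * g) * x * (o⁻¹ * g)⁻¹) * o⁻¹ by group]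
    exact mul_mem (mul_mem ho (hnorm _ hn x hx)) (inv_mem ho)⟩
  have hsum : ∑ a ∈ S, (deg (χ : G → ℂ) - m a) < deg (χ : G → ℂ) := by
    refine lt_of_le_of_lt (Finset.sum_le_sum fun a ha => show deg (χ : G → ℂ) - m a ≤
      Nat.card H * mult H χ x₀ by
        have := hC.fixed_core hM h1c hexp (Finset.ne_of_mem_erase ha) hχ (θ a) rfl (hm a)
        omega) ?_
    rw [Finset.sum_const, hS, Finset.card_erase_of_mem (Finset.mem_univ _), Finset.card_univ,
      smul_eq_mul, ← Nat.card_eq_fintype_card, ← mul_assoc]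
    exact hlt
  have hker := le_ker_of_codim χ.2 S θ m (irr_apply_one_eq_deg χ) (fun a _ => hm a) hsum hΘn
  -- the quotient by the kernel is abelian
  set K := kerSubgroup (χ : G → ℂ) (isCharacter_of_irr χ.2)
  haveI : K.Normal := kerSubgroup_normal (isCharacter_of_irr χ.2)
  have hKn : (K ⊔ H).Normal := by
    refine ⟨fun x hx g => ?_⟩
    obtain ⟨o, ho, hn⟩ := hgen g
    rw [← SetLike.mem_coe, Subgroup.normal_mul] at hx
    obtain ⟨k, hk, a, ha, rfl⟩ := hx
    have hoK : o ∈ K := (mem_kerSubgroup _ o).2 (hker o ho)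
    rw [show g * (k * a) * g⁻¹ = (g * k * g⁻¹) *
      (o * ((o⁻¹ * g) * a * (o⁻¹ * g)⁻¹) * o⁻¹) by group]
    exact mul_mem (Subgroup.mem_sup_left ((inferInstance : K.Normal).conj_mem k hk g))
      (mul_mem (mul_mem (Subgroup.mem_sup_left hoK)
        (Subgroup.mem_sup_right ((Subgroup.mem_normalizer_iff.1 hn a).1 ha)))
        (inv_mem (Subgroup.mem_sup_left hoK)))
  have htop : K ⊔ H = ⊤ := by
    refine top_le_iff.1 ?_
    rw [← hC.closure_top]
    exact Subgroup.normalClosure_le_normal fun a ha => Subgroup.mem_sup_right ha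
  have hab : ∀ a b : G ⧸ K, a * b = b * a := by
    intro a b
    obtain ⟨a, rfl⟩ := QuotientGroup.mk'_surjective K a
    obtain ⟨b, rfl⟩ := QuotientGroup.mk'_surjective K b
    have hd : ∀ g : G, ∃ h ∈ H, QuotientGroup.mk' K g = QuotientGroup.mk' K h := fun g => by
      have hg : g ∈ K ⊔ H := htop ▸ Subgroup.mem_top g
      rw [← SetLike.mem_coe, Subgroup.normal_mul] at hg
      obtain ⟨k, hk, h, hh, rfl⟩ := hg
      exact ⟨h, hh, by
        rw [map_mul, show QuotientGroup.mk' K k = 1 from (QuotientGroup.eq_one_iff k).2 hk, one_mul]⟩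
    obtain ⟨x, hx, hxa⟩ := hd a
    obtain ⟨y, hy, hyb⟩ := hd b
    rw [hxa, hyb, ← map_mul, ← map_mul, hC.comm x hx y hy]
  obtain ⟨b', hb', hbe⟩ := exists_factor (QuotientGroup.mk' K) (QuotientGroup.mk'_surjective K)
    (isCharacter_of_irr χ.2) fun k hk => (mem_kerSubgroup _ k).1 (by
      rwa [QuotientGroup.ker_mk'] at hk)
  haveI := Fintype.ofFinite (G ⧸ K)
  have hirr : IsIrrCharacter (G ⧸ K) b' := IsIrrCharacter.descend hb' (QuotientGroup.mk' K)
    (QuotientGroup.mk'_surjective K) (hbe ▸ χ.2)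
  have hd1 : (χ : G → ℂ) 1 = 1 := by
    rw [hbe]
    show b' (QuotientGroup.mk' K 1) = 1
    rw [map_one]
    exact irr_deg_one_of_comm hab hirr
  rw [irr_apply_one_eq_deg, Nat.cast_eq_one] at hd1
  rw [hd1, Nat.lt_one_iff] at hlt
  have := hC.mult_pos h1c hne
  haveI : Nontrivial H := by
    by_contra hn
    rw [not_nontrivial_iff_subsingleton] at hn
    exact hnc inferInstance
  have h2 : 1 < Nat.card H := Finite.one_lt_card
  rcases Nat.mul_eq_zero.1 hlt with h | h
  · rcases Nat.mul_eq_zero.1 h with h' | h' <;> omega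
  · omega

end Cfsg.Lib.ExtOdd
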