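import Mathlib
import Cfsg.Agent.ExtClosedOdd.Bounds
import Cfsg.Agent.Blocks.PPart

/-!
There is no minimal counterexample.
-/

set_option autoImplicit false
set_option linter.unusedSectionVars false
set_option linter.style.haveILetI false

namespace Cfsg.Lib.ExtOdd

open Cfsg.Lib.Chars Cfsg.Lib.Blocks
open scoped ComplexConjugate commutatorElement

universe u

variable {G : Type u} [Group G] [Fintype G] {p : ℕ} [Fact p.Prime] {H : Subgroup G} [Fintype H]

omit [Fintype G] [Fact p.Prime] in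
theorem eq_one_of_chars [Finite G] (hab : ∀ x ∈ H, ∀ y ∈ H, x * y = y * x) {u : H}
    (h : ∀ s : IrrCharacter H, (s : H → ℂ) u = 1) : u = 1 := by
  classical
  haveI := Fintype.ofFinite G
  by_contra hu
  have h1 := sum_chars hab u
  rw [if_neg hu, Finset.sum_congr rfl fun s _ => h s, Finset.sum_const, Finset.card_univ,
    card_chars hab, nsmul_eq_mul, mul_one] at h1
  exact Nat.card_pos.ne' (Nat.cast_eq_zero.1 h1)

omit [Fact p.Prime] in
theorem rel_triv {s : IrrCharacter H} (h : Rel H (triv H) s) : s = triv H := by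
  obtain ⟨n, rfl⟩ := h
  exact Subtype.ext (funext fun x => rfl)

theorem Crit.ne_bot (hC : Crit p H) : H ≠ ⊥ := fun h =>
  hC.ne_top (top_le_iff.1 fun g _ => mem_normalizer_of_fix fun x hx => by
    rw [h, Subgroup.mem_bot] at hx
    rw [hx, one_mul, mul_one])

variable [Fintype (Subgroup.normalizer (H : Set G))] {M : Ideal AlgInt}

open scoped Classical in
/-- `H` has at most two classes of characters -/
theorem Crit.rel_of_ne (hC : Crit p H) (hM : IsPModular p M) {a b : IrrCharacter H}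
    (ha : a ≠ triv H) (hb : b ≠ triv H) : Rel H a b := by
  classical
  by_contra hab'
  have hp : p.Prime := Fact.out
  set B := blockFinset M G with hB
  set B' := B.erase (principal G) with hB'
  have hrel := hC.relation hM
  -- the two kinds of characters
  have hkind : ∀ χ ∈ B', (∃ s, s ≠ triv H ∧ mult H χ s ≠ 0 ∧ mult H χ (triv H) = 0) ∨
      ∀ s, mult H χ s = mult H χ (triv H) := by
    intro χ hχ
    rw [hB', Finset.mem_erase] at hχ
    rcases single_or_const hC.comm hrel (fun h => ha (rel_triv h)) (fun h => hb (rel_triv h))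
      hab' hχ.2 with ⟨s, hs, hz⟩ | hc
    · by_cases hs1 : s = triv H
      · exfalso
        subst hs1
        refine (hC.mult_triv_lt hχ.1).ne ?_
        rw [← sum_mult hC.comm χ, Finset.sum_eq_single (triv H)
          (fun t _ ht => hz t fun h => ht (rel_triv h)) (by simp)]
      · exact Or.inl ⟨s, hs1, hs, hz _ fun h => hs1 (rel_triv (Rel.symm H h))⟩
    · exact Or.inr fun s => hc s _
  have hge : ∀ χ ∈ B', ∀ s, mult H χ (triv H) ≤ mult H χ s := by
    intro χ hχ s
    rcases hkind χ hχ with ⟨_, -, -, h⟩ | h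
    · rw [h]; exact Nat.zero_le _
    · rw [h s]
  have hone : ∀ s : IrrCharacter H, s ≠ triv H →
      ∑ χ ∈ B', deg (χ : G → ℂ) * (mult H χ s - mult H χ (triv H)) = 1 := by
    intro s hs
    have h := hC.sum_deg_mult hM s
    rw [← Finset.add_sum_erase _ _ (principal_mem hM), ← Finset.add_sum_erase _ _ (principal_mem hM),
      (mult_principal hC.comm s).1, (mult_principal hC.comm s).2 hs, mul_zero, zero_add, mul_one,
      show deg ((principal G : IrrCharacter G) : G → ℂ) = 1 by
        have := irr_apply_one_eq_deg (principal G)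
        rw [show ((principal G : IrrCharacter G) : G → ℂ) 1 = 1 from rfl] at this
        exact_mod_cast this.symm, ← hB, ← hB'] at h
    have h2 : ∑ χ ∈ B', deg (χ : G → ℂ) * mult H χ s =
        (∑ χ ∈ B', deg (χ : G → ℂ) * (mult H χ s - mult H χ (triv H))) +
          ∑ χ ∈ B', deg (χ : G → ℂ) * mult H χ (triv H) := by
      rw [← Finset.sum_add_distrib]
      refine Finset.sum_congr rfl fun χ hχ => ?_
      rw [← Nat.mul_add, Nat.sub_add_cancel (hge χ hχ s)]
    omega
  -- linear characters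
  have hlin : ∀ χ ∈ B', ∀ s, s ≠ triv H → mult H χ s - mult H χ (triv H) ≠ 0 →
      ∃ f : G →* ℂˣ, (χ : G → ℂ) = (fun g => (f g : ℂ)) ∧
        ∀ h : H, (χ : G → ℂ) h = (s : H → ℂ) h := by
    intro χ hχ s hs hne
    have h1 : deg (χ : G → ℂ) * (mult H χ s - mult H χ (triv H)) ≤ 1 := by
      rw [← hone s hs]
      exact Finset.single_le_sum (f := fun ψ : IrrCharacter G =>
        deg (ψ : G → ℂ) * (mult H ψ s - mult H ψ (triv H))) (fun _ _ => Nat.zero_le _) hχ
    have hd : deg (χ : G → ℂ) = 1 := by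
      have h2 := Nat.le_mul_of_pos_right (deg (χ : G → ℂ)) (Nat.pos_of_ne_zero hne)
      have h3 := deg_irr_pos χ
      omega
    have hd1 : (χ : G → ℂ) 1 = 1 := by rw [irr_apply_one_eq_deg, hd, Nat.cast_one]
    obtain ⟨f, hf⟩ := exists_hom_of_deg_one (isCharacter_of_irr χ.2) hd1
    refine ⟨f, hf, fun h => ?_⟩
    have hsum := sum_mult hC.comm χ
    rw [hd, ← Finset.add_sum_erase _ _ (Finset.mem_univ s)] at hsum
    have hzero : ∀ t ∈ Finset.univ.erase s, mult H χ t = 0 :=
      Finset.sum_eq_zero_iff.1 (by omega : ∑ t ∈ Finset.univ.erase s, mult H χ t = 0)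
    have hs1 : mult H χ s = 1 := by
      have := Finset.sum_eq_zero hzero
      omega
    rw [apply_eq_sum_mult H χ h, Finset.sum_eq_single s (fun t _ ht => by
      rw [hzero t (Finset.mem_erase.2 ⟨ht, Finset.mem_univ _⟩), Nat.cast_zero, zero_mul]) (by simp),
      hs1, Nat.cast_one, one_mul]
  have hex : ∀ s : IrrCharacter H, s ≠ triv H →
      ∃ f : G →* ℂˣ, ∀ h : H, (f h : ℂ) = (s : H → ℂ) h := by
    intro s hs
    obtain ⟨χ, hχ, hne⟩ := Finset.exists_ne_zero_of_sum_ne_zero
      (s := B') (f := fun χ : IrrCharacter G =>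
        deg (χ : G → ℂ) * (mult H χ s - mult H χ (triv H))) (by rw [hone s hs]; exact one_ne_zero)
    obtain ⟨f, hf, hfh⟩ := hlin χ hχ s hs fun h => hne (by rw [h, mul_zero])
    exact ⟨f, fun h => by rw [← hfh h, hf]⟩
  have hsep : ∀ u : H, (∀ f : G →* ℂˣ, f u = 1) → u = 1 := fun u hu =>
    eq_one_of_chars hC.comm fun s => by
      by_cases hs : s = triv H
      · rw [hs, triv_apply]
      obtain ⟨f, hf⟩ := hex s hs
      rw [← hf u, hu f, Units.val_one]
  -- the normalizer centralizes `H`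
  have hfix : ∀ n ∈ Subgroup.normalizer (H : Set G), ∀ h ∈ H, n * h * n⁻¹ = h := by
    intro n hn h hh
    have h1 := hsep ⟨h⁻¹ * (n * h * n⁻¹),
      mul_mem (inv_mem hh) ((Subgroup.mem_normalizer_iff.1 hn h).1 hh)⟩ fun f => by
        show f (h⁻¹ * (n * h * n⁻¹)) = 1
        rw [map_mul, map_inv, map_mul, map_mul, map_inv, mul_inv_cancel_comm, inv_mul_cancel]
    exact (inv_mul_eq_one.1 (congrArg Subtype.val h1)).symm
  -- the derived group
  set D := commutator G with hD
  have hDf : ∀ (f : G →* ℂˣ), ∀ x ∈ D, f x = 1 := fun f x hx =>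
    MonoidHom.mem_ker.1 (Abelianization.commutator_subset_ker f hx)
  have hDH : ∀ x ∈ D, x ∈ H → x = 1 := fun x hxD hxH =>
    congrArg Subtype.val (hsep ⟨x, hxH⟩ fun f => hDf f x hxD)
  have hpD : p ∣ Nat.card D := by
    by_contra hpD
    have h1 : D ≤ Cfsg.pPrimeCore p G :=
      Cfsg.Lib.Components.le_pPrimeCore (hn := inferInstance)
        ((hp.coprime_iff_not_dvd.2 hpD).symm)
    rw [hC.core_bot, le_bot_iff] at h1
    refine hC.ne_top (top_le_iff.1 fun g _ => mem_normalizer_of_fix fun x _ => ?_)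
    have h2 : ⁅x, g⁆ ∈ D := Subgroup.commutator_mem_commutator (Subgroup.mem_top x) (Subgroup.mem_top g)
    rw [h1, Subgroup.mem_bot, commutatorElement_eq_one_iff_mul_comm] at h2
    exact h2
  obtain ⟨y, hy⟩ := exists_prime_orderOf_dvd_card' (G := D) p hpD
  rw [← Subgroup.orderOf_coe] at hy
  obtain ⟨P, hP⟩ := hC.pgrp.exists_le_sylow
  have hyp : IsPGroup p (Subgroup.zpowers (y : G)) :=
    IsPGroup.of_card (n := 1) (by rw [Nat.card_zpowers, hy, pow_one])
  obtain ⟨Q, hQ⟩ := hyp.exists_le_sylow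
  obtain ⟨g, hg⟩ := MulAction.exists_smul_eq G Q P
  set z : G := g * y * g⁻¹ with hz
  have hzD : z ∈ D := (inferInstance : D.Normal).conj_mem _ y.2 g
  have hzo : orderOf z = p := by
    rw [hz, ← hy]
    exact (MulEquiv.orderOf_eq (MulAut.conj g) (y : G))
  have hzP : z ∈ (P : Subgroup G) := by
    rw [← hg, Sylow.coe_subgroup_smul]
    exact ⟨(y : G), hQ (Subgroup.mem_zpowers _), rfl⟩
  have hzN : z ∈ Subgroup.normalizer (H : Set G) :=
    ((Cfsg.Lib.Easy.extremelyClosed_basic (p := p) H hC.ext).2 P hP).1 hzP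
  obtain ⟨h₀, hh₀⟩ := (Subgroup.ne_bot_iff_exists_ne_one.1 hC.ne_bot)
  set h : G := (h₀ : G) with hh
  have hh1 : h ≠ 1 := fun e => hh₀ (Subtype.ext e)
  have hcomm : h * z = z * h := by
    conv_lhs => rw [← hfix z hzN h h₀.2]
    group
  have hhz : ∃ k, orderOf (h * z) = p ^ k := by
    obtain ⟨k, hk⟩ := IsPGroup.iff_orderOf.1 P.isPGroup' ⟨h * z, mul_mem (hP h₀.2) hzP⟩
    exact ⟨k, by rwa [Subgroup.orderOf_mk] at hk⟩
  have hnc : ¬ IsConj h (h * z) := by
    intro hcj
    obtain ⟨c, hc⟩ := isConj_iff.1 hcj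
    obtain ⟨O, hO, -, -, o, ho, hn⟩ := hC.decomp c
    have h1 : z = (h⁻¹ * o * h) * o⁻¹ := by
      have e : o * ((o⁻¹ * c) * h * (o⁻¹ * c)⁻¹) * o⁻¹ = h * z := by rw [← hc]; group
      rw [hfix _ hn h h₀.2] at e
      rw [show z = h⁻¹ * (h * z) by group, ← e]
      group
    have h2 : z ∈ O := by
      rw [h1]
      have := hO.norm _ (inv_mem h₀.2) o ho
      rw [inv_inv] at this
      exact mul_mem this (inv_mem ho)
    have h3 := orderOf_coprime hO.cop h2
    rw [hzo] at h3
    exact hp.one_lt.ne' ((Nat.coprime_self p).1 h3)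
  have h0 := block_orthogonality hM (isPBlock_blockOf (M := M) (principal G))
    (isPPart_self hp (hC.exists_orderOf h₀.2)) (isPPart_self hp hhz) hnc
  have h1 : ∑ χ ∈ B, (χ : G → ℂ) h * (χ : G → ℂ) (h * z)⁻¹ = 0 := by
    refine Eq.trans (Finset.sum_congr ?_ fun χ _ => rfl) h0
    ext χ
    simp only [hB, blockFinset, Finset.mem_filter]
    rfl
  have hterm : ∀ χ ∈ B', 0 ≤ ((χ : G → ℂ) h * (χ : G → ℂ) (h * z)⁻¹).re := by
    intro χ hχ
    rcases hkind χ hχ with ⟨s, hs, hs0, hm0⟩ | hc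
    · obtain ⟨f, hf, -⟩ := hlin χ hχ s hs (by omega)
      rw [hf]
      show 0 ≤ ((f h : ℂ) * (f (h * z)⁻¹ : ℂ)).re
      rw [← Units.val_mul, map_inv, map_mul, hDf f z hzD, mul_one, mul_inv_cancel]
      norm_num
    · have h2 : (χ : G → ℂ) h = 0 := by
        rw [hh, apply_eq_sum_mult H χ h₀, Finset.sum_congr rfl fun s _ => by rw [hc s],
          ← Finset.mul_sum, sum_chars hC.comm, if_neg hh₀, mul_zero]
      rw [h2, zero_mul]
      norm_num
  have h2 := congrArg Complex.re h1
  rw [← Finset.add_sum_erase _ _ (hB ▸ principal_mem hM), Complex.add_re, Complex.re_sum,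
    ← hB'] at h2
  have h3 : (((principal G : IrrCharacter G) : G → ℂ) h *
      ((principal G : IrrCharacter G) : G → ℂ) (h * z)⁻¹).re = 1 := by
    show ((1 : ℂ) * 1).re = 1
    norm_num
  rw [h3, Complex.zero_re] at h2
  have := Finset.sum_nonneg hterm
  linarith

/-- `H` has exponent `p` when all nontrivial characters are conjugate -/
theorem OneClass.pow_eq_one {x₀ : IrrCharacter H} (h1c : OneClass H x₀) (hH : Hyp p H) :
    ∀ h ∈ H, h ^ p = 1 := by
  obtain ⟨f, hf⟩ := exists_hom hH.comm x₀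
  let g : H →* ℂˣ := (powMonoidHom p).comp f
  let y : IrrCharacter H := ⟨fun h => (g h : ℂ), isIrrCharacter_linear g⟩
  have hy : y = triv H := by
    by_contra hy
    obtain ⟨n, hn⟩ := Rel.symm H (h1c.2 y hy)
    have hstep : ∀ h : H, (x₀ : H → ℂ) h = (x₀ : H → ℂ) ((conjH H n h) ^ p) := fun h => by
      conv_lhs => rw [← hn, tw_apply]
      show (g (conjH H n h) : ℂ) = (x₀ : H → ℂ) ((conjH H n h) ^ p)
      rw [hf, map_pow]
      rfl
    have hall : ∀ (k : ℕ) (h : H), h ^ p ^ k = 1 → (x₀ : H → ℂ) h = 1 := by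
      intro k
      induction k with
      | zero =>
        intro h hh
        rw [pow_zero, pow_one] at hh
        rw [hh, hf, map_one, Units.val_one]
      | succ k ih =>
        intro h hh
        rw [hstep h]
        refine ih _ ?_
        rw [← pow_mul, ← pow_succ', ← map_pow, hh, map_one]
    exact h1c.1 (Subtype.ext (funext fun h => by
      obtain ⟨k, hk⟩ := hH.pgrp h
      rw [hall k h hk, triv_apply]))
  intro h hh
  have h1 : (⟨h, hh⟩ : H) ^ p = 1 := eq_one_of_chars hH.comm fun s => by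
    by_cases hs : s = triv H
    · rw [hs, triv_apply]
    obtain ⟨n, rfl⟩ := h1c.2 s hs
    rw [tw_apply, map_pow, hf, map_pow]
    exact congrFun (congrArg Subtype.val hy) (conjH H n ⟨h, hh⟩)
  exact congrArg Subtype.val h1

/-- there is no minimal counterexample -/
theorem Crit.false (hC : Crit p H) (hM : IsPModular p M) (hp2 : p ≠ 2) : False := by
  classical
  have hp : p.Prime := Fact.out
  haveI : Nontrivial H := (Subgroup.nontrivial_iff_ne_bot H).2 hC.ne_bot
  obtain ⟨h₀, hh₀⟩ := exists_ne (1 : H)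
  obtain ⟨x₀, hx₀⟩ : ∃ s : IrrCharacter H, s ≠ triv H := by
    by_contra hno
    push Not at hno
    exact hh₀ (eq_one_of_chars hC.comm fun s => by rw [hno s, triv_apply])
  have h1c : OneClass H x₀ := ⟨hx₀, fun s hs => hC.rel_of_ne hM hx₀ hs⟩
  have hexp := h1c.pow_eq_one hC.toHyp
  set n := Nat.card H - 1 with hn
  have hn2 : 2 ≤ n := by
    have h1 : orderOf h₀ = p := orderOf_eq_prime (Subtype.ext (hexp _ h₀.2)) hh₀
    have h2 := Nat.le_of_dvd Nat.card_pos (orderOf_dvd_natCard h₀)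
    have := hp.two_le
    omega
  have hN : Nat.card H = n + 1 := by omega
  set B := blockFinset M G with hB
  set B' := B.erase (principal G) with hB'
  let R : IrrCharacter G → ℝ := fun χ => (mult H χ (triv H) : ℝ) - mult H χ x₀
  let d : IrrCharacter G → ℝ := fun χ => deg (χ : G → ℂ)
  let T : IrrCharacter G → ℝ := fun χ => ((n : ℝ) - 1) * R χ ^ 2 - n * R χ ^ 3 / d χ
  have hd : ∀ χ : IrrCharacter G, d χ = (mult H χ (triv H) : ℝ) + n * mult H χ x₀ := fun χ => by
    show ((deg (χ : G → ℂ) : ℕ) : ℝ) = _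
    rw [h1c.deg_eq hC.comm χ, ← hn]
    push_cast
    rfl
  have hdpos : ∀ χ : IrrCharacter G, 0 < d χ := fun χ => Nat.cast_pos.2 (deg_irr_pos χ)
  -- the two identities
  have hdR : ∑ χ ∈ B, d χ * R χ = 0 := by
    have h : ((∑ χ ∈ B, deg (χ : G → ℂ) * mult H χ x₀ : ℕ) : ℝ) =
        ((∑ χ ∈ B, deg (χ : G → ℂ) * mult H χ (triv H) : ℕ) : ℝ) :=
      congrArg Nat.cast (hC.sum_deg_mult hM x₀)
    push_cast at h
    simp only [R, d, mul_sub, Finset.sum_sub_distrib]
    linarith
  have hcub : ∑ χ ∈ B, (T χ + d χ * R χ) = 0 := by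
    have htr : ∀ s, _ := fun s => transform hC.comm (hC.relation hM) s (triv H) (triv H)
      (κ := 1) (by
        rw [Finset.sum_congr rfl fun m _ => if_pos (rel_triv ⟨m, rfl⟩), Finset.sum_const,
          Finset.card_univ, nsmul_eq_mul, mul_one, ← Nat.card_eq_fintype_card,
          inv_mul_cancel₀ (Nat.cast_ne_zero.2 Nat.card_pos.ne')])
    have h := mul_left_cancel₀ (Nat.cast_ne_zero.2 (Nat.card_pos (α := H)).ne')
      ((htr (triv H)).trans (htr x₀).symm)
    rw [← sub_eq_zero, ← Finset.sum_sub_distrib] at h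
    have hn0 : ((n : ℝ) : ℂ) ≠ 0 := Complex.ofReal_ne_zero.2 (Nat.cast_ne_zero.2 (by omega))
    refine Complex.ofReal_injective (mul_left_cancel₀ hn0 ?_)
    rw [Complex.ofReal_zero, mul_zero, Complex.ofReal_sum, Finset.mul_sum,
      ← mul_zero (-(((n : ℂ) + 1) ^ 2)), ← h, Finset.mul_sum]
    refine Finset.sum_congr rfl fun χ _ => ?_
    have h0 : (mult H χ (triv H) : ℂ) + n * mult H χ x₀ ≠ 0 := by
      have := (hdpos χ).ne'
      rw [hd] at this
      exact_mod_cast this
    rw [irr_apply_one_eq_deg, h1c.deg_eq hC.comm χ, ← hn]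
    simp only [T, R, hd]
    push_cast
    field_simp
    ring
  rw [Finset.sum_add_distrib, hdR, add_zero, ← Finset.add_sum_erase _ _ (principal_mem hM),
    ← hB'] at hcub
  rw [← Finset.add_sum_erase _ _ (principal_mem hM), ← hB'] at hdR
  have hR1 : R (principal G) = 1 := by
    simp only [R, (mult_principal hC.comm x₀).1, (mult_principal hC.comm x₀).2 hx₀]
    norm_num
  have hd1 : d (principal G) = 1 := by
    rw [hd, (mult_principal hC.comm x₀).1, (mult_principal hC.comm x₀).2 hx₀]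
    norm_num
  have hT1 : T (principal G) = -1 := by
    simp only [T, hR1, hd1]; ring
  rw [hT1] at hcub
  rw [hR1, hd1, mul_one] at hdR
  -- every term is nonnegative
  have hnn : ∀ χ ∈ B', 0 ≤ T χ := by
    intro χ hχ
    rw [hB', Finset.mem_erase] at hχ
    have hb : deg (χ : G → ℂ) ≤ (Nat.card H - 1) * Nat.card H * mult H χ x₀ := by
      by_cases hcyc : IsCyclic H
      · refine hC.bound_prime hp2 h1c ?_ χ hχ.1
        obtain ⟨c, hc⟩ := isCyclic_iff_exists_orderOf_eq_natCard.1 hcyc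
        rw [← hc]
        refine orderOf_eq_prime (Subtype.ext (hexp _ c.2)) fun h => ?_
        rw [h, orderOf_one] at hc
        omega
      · exact hC.bound_noncyclic hM h1c hexp hcyc (mem_blockFinset.1 hχ.2) hχ.1
    have hb' : d χ ≤ (n : ℝ) * ((n : ℝ) + 1) * mult H χ x₀ := by
      have : (deg (χ : G → ℂ) : ℝ) ≤ (((Nat.card H - 1) * Nat.card H * mult H χ x₀ : ℕ) : ℝ) :=
        Nat.cast_le.2 hb
      rw [← hn, hN] at this
      push_cast at this
      exact this
    have h1 : T χ = R χ ^ 2 * (((n : ℝ) - 1) * d χ - n * R χ) / d χ := by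
      have := (hdpos χ).ne'
      simp only [T]
      field_simp
    rw [h1]
    refine div_nonneg (mul_nonneg (sq_nonneg _) ?_) (hdpos χ).le
    rw [hd] at hb' ⊢
    simp only [R]
    nlinarith
  -- a negative value
  obtain ⟨χ, hχ, hneg⟩ : ∃ χ ∈ B', R χ < 0 := by
    by_contra hno
    push Not at hno
    have := Finset.sum_nonneg fun χ hχ => mul_nonneg (hdpos χ).le (hno χ hχ)
    linarith
  have hle : T χ ≤ 1 := by
    have := Finset.single_le_sum hnn hχ
    linarith
  have hR : R χ ≤ -1 := by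
    have h1 : mult H χ (triv H) < mult H χ x₀ := by
      simp only [R, sub_neg] at hneg
      exact_mod_cast hneg
    have h2 : ((mult H χ (triv H) : ℝ) + 1) ≤ mult H χ x₀ := by exact_mod_cast h1
    simp only [R]
    linarith
  have hnR : (2 : ℝ) ≤ n := by exact_mod_cast hn2
  have h2 : 0 < -(n * R χ ^ 3 / d χ) := by
    rw [← neg_div]
    refine div_pos ?_ (hdpos χ)
    have : R χ ^ 3 < 0 := (Odd.pow_neg_iff (by decide)).2 hneg
    nlinarith
  have h3 : 1 ≤ ((n : ℝ) - 1) * R χ ^ 2 := by nlinarith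
  simp only [T] at hle
  linarith

end Cfsg.Lib.ExtOdd
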