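import Mathlib
import Cfsg.Agent.ExtClosedOdd.Basic
import Cfsg.Agent.Chars.IrrTools
import Cfsg.Agent.Chars.Gallagher
import Cfsg.Agent.Blocks.CyclicGlauberman
import Cfsg.Agent.Components.CyclicPair.Values

/-!
An extremely closed abelian `p`-subgroup, `p` odd: the characters fixed by it are trivial on
`[O, H]`, for invariant subgroups `O` of order prime to `p`.
-/

set_option autoImplicit false
set_option linter.unusedSectionVars false
set_option linter.style.haveILetI false

namespace Cfsg.Lib.ExtOdd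

open Subgroup Cfsg.Lib.Chars
open Cfsg.Lib.ZStarApps (mem_normalizer_of_maps)
open scoped ComplexConjugate commutatorElement

universe u

variable {G : Type u} [Group G] [Finite G] {p : ℕ}

/-- a function on `O` invariant under conjugation by `H` -/
def Stable (H O : Subgroup G) (φ : O → ℂ) : Prop :=
  ∀ h ∈ H, ∀ a b : O, (b : G) = h * a * h⁻¹ → φ b = φ a

/-- invariant irreducible characters of `O` are trivial on `[O, H]` -/
def KerOn (H O : Subgroup G) : Prop :=
  ∀ φ : O → ℂ, Cfsg.IsIrrCharacter O φ → Stable H O φ →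
    ∀ z : O, (z : G) ∈ ⁅O, H⁆ → φ z = φ 1

/-- the decomposition when the whole group is `O H` -/
theorem Hyp.exists_mul {H O : Subgroup G} (hHO : H ≤ normalizer (O : Set G)) (hgen : O ⊔ H = ⊤)
    (g : G) : ∃ h ∈ H, ∃ a ∈ O, g = h * a := by
  have hg : g ∈ ((H ⊔ O : Subgroup G) : Set G) := by rw [sup_comm, hgen]; exact mem_top g
  rw [Subgroup.coe_mul_of_left_le_normalizer_right H O hHO] at hg
  obtain ⟨h, hh, a, ha, rfl⟩ := hg
  exact ⟨h, hh, a, ha, rfl⟩

variable [Fact p.Prime]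

/-- a normalizing element of `O` centralizes `H` -/
theorem Hyp.commute_of_mem {H O : Subgroup G} (hH : Hyp p H) (hHO : H ≤ normalizer (O : Set G))
    (hcop : (Nat.card O).Coprime p) {a : G} (ha : a ∈ O) (hn : a ∈ normalizer (H : Set G)) {h : G}
    (hh : h ∈ H) : h * a = a * h := by
  have h1 : a * h * a⁻¹ * h⁻¹ ∈ H :=
    mul_mem ((Subgroup.mem_normalizer_iff.1 hn h).1 hh) (inv_mem hh)
  have h2 : a * h * a⁻¹ * h⁻¹ ∈ O := by
    rw [show a * h * a⁻¹ * h⁻¹ = a * (h * a⁻¹ * h⁻¹) by group]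
    exact mul_mem ha ((Subgroup.mem_normalizer_iff.1 (hHO hh) _).1 (inv_mem ha))
  obtain ⟨s, hs⟩ := hH.pow_eq_one h1
  have h3 : a * h * a⁻¹ * h⁻¹ = 1 := eq_one_of_pElement hs (orderOf_coprime hcop h2)
  rw [mul_inv_eq_one, mul_inv_eq_iff_eq_mul] at h3
  exact h3.symm

omit [Fact p.Prime] in
theorem detOrder_comp_dvd {K : Type u} [Group K] [Finite K] (f : K →* G) {χ : G → ℂ}
    (hχ : Cfsg.IsCharacter G χ) :
    Cfsg.detOrder (fun k => χ (f k)) ∣ Cfsg.detOrder χ := by
  refine orderOf_dvd_of_pow_eq_one (funext fun k => ?_)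
  have h1 : Cfsg.detChar (fun k => χ (f k)) k = Cfsg.detChar χ (f k) := by
    obtain ⟨n, ρ, rfl⟩ := hχ
    let σ : Representation ℂ K (Fin n → ℂ) := MonoidHom.comp ρ f
    rw [show (fun k => ρ.character (f k)) = σ.character from rfl, detChar_character σ k,
      detChar_character ρ (f k)]
    rfl
  rw [Pi.pow_apply, Pi.one_apply, h1]
  exact congrFun (pow_orderOf_eq_one (Cfsg.detChar χ)) (f k)

/-- the value on a product: data on the coset of one element -/
theorem coset_data {H O : Subgroup G} [O.Normal] (hH : Hyp p H) (hcop : (Nat.card O).Coprime p)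
    {χ : G → ℂ} (hχ : Cfsg.IsIrrCharacter G χ)
    (hirr : Cfsg.IsIrrCharacter O (fun a : O => χ a)) (hdet : (Cfsg.detOrder χ).Coprime p)
    {x : G} (hx : x ∈ H) (ih : KerOn H (O ⊓ centralizer ({x} : Set G))) :
    χ x ≠ 0 ∧ ∀ e ∈ ⁅O ⊓ centralizer ({x} : Set G), H⁆, χ (e * x) = χ x := by
  classical
  haveI := Fintype.ofFinite G
  set Ox := O ⊓ centralizer ({x} : Set G)
  set K := O ⊔ zpowers x with hK
  haveI := Fintype.ofFinite K
  set O' := O.subgroupOf K
  haveI : O'.Normal := inferInstance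
  set C' := Ox.subgroupOf K
  set s : K := ⟨x, mem_sup_right (mem_zpowers x)⟩
  obtain ⟨k, hk⟩ := hH.exists_orderOf hx
  have hOK : O ≤ K := le_sup_left
  have hOxK : Ox ≤ K := inf_le_left.trans hOK
  have hcy : Cfsg.Lib.CyclicGlauberman.CoCyc O' C' s := by
    refine ⟨⟨?_, ?_⟩, ?_⟩
    · rw [Nat.card_congr (subgroupOfEquivOfLe hOK).toEquiv, ← Subgroup.orderOf_coe s, hk]
      exact hcop.pow_right k
    · ext y
      simp only [C', O', Ox, mem_subgroupOf, mem_inf, mem_centralizer_singleton_iff,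
        Cfsg.Lib.Coprime.centralizer_zpowers]
      exact and_congr_right fun _ => ⟨fun h => Subtype.ext h, fun h => congrArg Subtype.val h⟩
    · refine eq_top_iff.2 fun y _ => ?_
      obtain ⟨a, ha, t, ht, hat⟩ := mem_sup_of_normal_left.1 (show (y : G) ∈ O ⊔ zpowers x from y.2)
      obtain ⟨i, rfl⟩ := ht
      rw [show y = (⟨a, hOK ha⟩ : K) * s ^ i from Subtype.ext (by rw [← hat]; rfl)]
      exact mul_mem (mem_sup_left ha) (mem_sup_right (zpow_mem (mem_zpowers s) i))
  have hχc := isCharacter_of_irr hχ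
  set φ' : O' → ℂ := fun a => χ ((a : K) : G)
  have hφ' : Cfsg.IsIrrCharacter O' φ' :=
    IsIrrCharacter.comp_mulEquiv hirr (subgroupOfEquivOfLe hOK)
  have hχK : Cfsg.IsIrrCharacter K (fun y : K => χ y) :=
    irr_of_comp_irr (IsCharacter.comp_hom hχc K.subtype) O'.subtype hφ'
  have hdK : (Cfsg.detOrder (fun y : K => χ y)).Coprime (orderOf s) := by
    rw [← Subgroup.orderOf_coe s, hk]
    exact (hdet.coprime_dvd_left (detOrder_comp_dvd K.subtype hχc)).pow_right k
  obtain ⟨β, ε, hε, hval, -⟩ := hcy.exists_sign hφ' hχK (fun _ => rfl) hdK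
  set e₀ := (subgroupOfEquivOfLe hOxK).symm
  set β' : Ox → ℂ := fun c => (β : C' → ℂ) (e₀ c)
  have hβ' : Cfsg.IsIrrCharacter Ox β' := IsIrrCharacter.comp_mulEquiv β.2 e₀
  have hv : ∀ c : Ox, χ ((c : G) * x) = (ε : ℂ) * β' c := fun c => hval (e₀ c) s rfl
  have hε0 : (ε : ℂ) ≠ 0 := by rcases hε with rfl | rfl <;> norm_num
  have hst : Stable H Ox β' := fun h hh a b hb => by
    refine mul_left_cancel₀ hε0 ?_
    rw [← hv, ← hv, hb]
    conv_rhs => rw [← isClassFunction_isChar hχc ((a : G) * x) h]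
    congr 1
    rw [show h * ((a : G) * x) * h⁻¹ = h * a * (x * h⁻¹) by group,
      hH.comm x hx _ (inv_mem hh), mul_assoc (h * (a : G))]
  have h1 : χ x = (ε : ℂ) * β' 1 := by
    rw [← hv, OneMemClass.coe_one, one_mul]
  refine ⟨by rw [h1]; exact mul_ne_zero hε0 (IsIrrCharacter.apply_one_ne_zero hβ'), ?_⟩
  intro e he
  have heO : e ∈ Ox := Cfsg.Lib.Coprime.commutator_le_of_le_normalizer
    (show H ≤ normalizer (Ox : Set G) from fun a ha => mem_normalizer_of_maps (A := Ox) fun b hb =>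
      ⟨(inferInstance : O.Normal).conj_mem b hb.1 a,
      (Subgroup.mem_normalizer_iff.1 (Subgroup.le_normalizer (hH.le_cent hx ha)) b).1 hb.2⟩) he
  rw [show e * x = ((⟨e, heO⟩ : Ox) : G) * x from rfl, hv, ih β' hβ' hst ⟨e, heO⟩ he, ← h1]

/-- the step: no nontrivial element of `H` centralizes `O` -/
theorem kerOn_faithful (hp2 : p ≠ 2) {H O : Subgroup G} [O.Normal] (hH : Hyp p H)
    (hcop : (Nat.card O).Coprime p) (hgen : O ⊔ H = ⊤)
    (ih : ∀ x ∈ H, x ≠ 1 → KerOn H (O ⊓ centralizer ({x} : Set G))) : KerOn H O := by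
  classical
  intro φ hφ hst z hz
  haveI := Fintype.ofFinite G
  haveI := Fintype.ofFinite O
  by_cases hbot : H = ⊥
  · rw [hbot, commutator_bot_right, mem_bot] at hz
    rw [show z = 1 from Subtype.ext hz]
  have hp : p.Prime := Fact.out
  have hHO : H ≤ normalizer (O : Set G) := le_normalizer_of_normal
  -- the canonical extension
  obtain ⟨k, hk⟩ := IsPGroup.iff_card.1 hH.pgrp
  have hidx : O.index = p ^ k := by
    rw [← hk]
    refine Subgroup.IsComplement'.index_eq_card ?_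
    refine (Subgroup.isComplement'_of_disjoint_and_mul_eq_univ ?_ ?_)
    · rw [disjoint_iff_inf_le]
      intro y hy
      obtain ⟨s, hs⟩ := hH.pow_eq_one hy.1
      exact mem_bot.2 (eq_one_of_pElement hs (orderOf_coprime hcop hy.2))
    · rw [← Subgroup.coe_mul_of_left_le_normalizer_right H O hHO, sup_comm, hgen, coe_top]
  have hinv : ∀ g : G, conjN O g φ = φ := fun g => funext fun a => by
    obtain ⟨h, hh, b, hb, rfl⟩ := Hyp.exists_mul hHO hgen g
    show φ ⟨h * b * a * (h * b)⁻¹, _⟩ = φ a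
    rw [hst h hh ((⟨b, hb⟩ : O) * a * (⟨b, hb⟩ : O)⁻¹) _ (by
      simp only [Subgroup.coe_mul, InvMemClass.coe_inv]; group)]
    exact isClassFunction_isChar (isCharacter_of_irr hφ) a _
  obtain ⟨d, hd0, hd⟩ := IsIrrCharacter.apply_one hφ
  have hdO : d ∣ Nat.card O := by
    have h1 := IsCharacter.apply_one_eq_deg (isCharacter_of_irr hφ)
    rw [hd, Nat.cast_inj] at h1
    rw [h1]
    exact IsIrrCharacter.deg_dvd hφ
  have hdo : (Cfsg.detOrder φ).Coprime p :=
    hcop.coprime_dvd_left (Cfsg.Lib.CyclicGlauberman.detOrder_dvd_card (isCharacter_of_irr hφ))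
  have hcop' : Nat.Coprime O.index (Cfsg.detOrder φ * d) := by
    rw [hidx]
    exact ((hdo.mul_left (hcop.coprime_dvd_left hdO)).symm).pow_left k
  obtain ⟨χ, ⟨hχ, hres, hdet⟩, -⟩ := exists_canonical_extension O hφ hinv hd hcop'
  have hχ1 : χ 1 = d := by rw [← hd, ← hres 1]; rfl
  have hirr : Cfsg.IsIrrCharacter O (fun a : O => χ a) := (funext hres : (fun a : O => χ a) = φ) ▸ hφ
  have hdata : ∀ x ∈ H, x ≠ 1 →
      χ x ≠ 0 ∧ ∀ e ∈ ⁅O ⊓ centralizer ({x} : Set G), H⁆, χ (e * x) = χ x :=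
    fun x hx hx1 => coset_data hH hcop hχ hirr (hdet.symm ▸ hdo) hx (ih x hx hx1)
  have hcl := isClassFunction_isChar (isCharacter_of_irr hχ)
  -- multiplicativity
  have hmul : ∀ a ∈ H, ∀ b ∈ H, a * b ≠ 1 → χ a * χ b = χ (a * b) * d := by
    intro a ha b hb hab
    have hall : ∀ g : G, χ (g * a * g⁻¹ * b) = χ (a * b) := by
      intro g
      obtain ⟨O', hO', -, -, o, ho, hn⟩ := hH.decomp g
      have hfix : (o⁻¹ * g) * a * (o⁻¹ * g)⁻¹ = a := by
        obtain ⟨h, hh, c, hc, he⟩ := Hyp.exists_mul hHO hgen (o⁻¹ * g)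
        have hcn : c ∈ normalizer (H : Set G) := by
          rw [show c = h⁻¹ * (h * c) by group, ← he]
          exact mul_mem (inv_mem (Subgroup.le_normalizer hh)) hn
        rw [he, show h * c * a * (h * c)⁻¹ = h * (c * a * c⁻¹) * h⁻¹ by group,
          ← hH.commute_of_mem hHO hcop hc hcn ha, mul_inv_cancel_right, hH.comm h hh a ha,
          mul_inv_cancel_right]
      have hr : o * a * o⁻¹ * a⁻¹ ∈ O' := by
        rw [show o * a * o⁻¹ * a⁻¹ = o * (a * o⁻¹ * a⁻¹) by group]
        exact mul_mem ho (hO'.norm a ha _ (inv_mem ho))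
      have hab' : a * b ∈ H := mul_mem ha hb
      obtain ⟨c, -, e, he, hex, hc⟩ := exists_conj_commute hO'.cop (hH.exists_orderOf hab')
        (hO'.le_normalizer hab') hr
      have heq : g * a * g⁻¹ * b = o * a * o⁻¹ * a⁻¹ * (a * b) := by
        rw [show g * a * g⁻¹ = o * ((o⁻¹ * g) * a * (o⁻¹ * g)⁻¹) * o⁻¹ by group, hfix]
        group
      rw [heq, ← hcl (o * a * o⁻¹ * a⁻¹ * (a * b)) c, hc]
      refine (hdata _ hab' hab).2 e ?_
      set S := O' ⊓ centralizer ({a * b} : Set G)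
      have hS : Sig p H S := hO'.inter ((hH.le_cent hab').trans Subgroup.le_normalizer)
      have hSO : S ≤ O ⊓ centralizer ({a * b} : Set G) := by
        refine le_inf (fun y hy => ?_) inf_le_right
        obtain ⟨h, hh, w, hw, rfl⟩ := Hyp.exists_mul hHO hgen y
        obtain ⟨t, ht⟩ := hH.pow_eq_one hh
        rw [eq_one_of_mul hcop (hHO hh) hw ht (orderOf_coprime hO'.cop hy.1), one_mul]
        exact hw
      have hSS : S ≤ ⁅S, H⁆ := by
        conv_lhs => rw [← Cfsg.Lib.Coprime.commutator_sup_centralizer hS.le_normalizer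
          (card_coprime hH.pgrp hS.cop) (Or.inl hH.solvable)]
        refine sup_le le_rfl fun y hy => ?_
        rw [hS.free y hy.1 fun h hh => mem_centralizer_iff.1 hy.2 h hh]
        exact one_mem _
      exact (hSS.trans (commutator_mono hSO le_rfl))
        ⟨he, mem_centralizer_singleton_iff.2 hex⟩
    have hsum := Cfsg.Lib.CyclicPair.sum_conj_mul hχ a b
    rw [Finset.sum_congr rfl fun g _ => hall g, Finset.sum_const, Finset.card_univ, nsmul_eq_mul,
      ← Nat.card_eq_fintype_card, hχ1] at hsum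
    have hG : (Nat.card G : ℂ) ≠ 0 := Nat.cast_ne_zero.2 Nat.card_pos.ne'
    have hd' : (d : ℂ) ≠ 0 := Nat.cast_ne_zero.2 hd0.ne'
    field_simp at hsum
    linear_combination -hsum
  -- the values have full norm
  have hfull : ∀ x ∈ H, ‖χ x‖ = d := by
    intro x hx
    by_cases hx1 : x = 1
    · rw [hx1, hχ1, Complex.norm_natCast]
    obtain ⟨j, hj⟩ := hH.exists_orderOf hx
    have hj0 : j ≠ 0 := fun h => hx1 (orderOf_eq_one_iff.1 (by rw [hj, h, pow_zero]))
    have hm3 : 3 ≤ orderOf x := by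
      rw [hj]
      exact le_trans (by have := hp.two_le; omega) (Nat.le_self_pow hj0 p)
    have hpow : ∀ i, i + 1 < orderOf x → χ (x ^ (i + 1)) * (d : ℂ) ^ i = χ x ^ (i + 1) := by
      intro i
      induction i with
      | zero => intro _; simp
      | succ i ih' =>
        intro hi
        have h1 := hmul _ (pow_mem hx (i + 1)) x hx (by
          rw [← pow_succ]; exact pow_ne_one_of_lt_orderOf (by omega) hi)
        rw [← pow_succ] at h1
        rw [pow_succ (χ x) (i + 1), ← ih' (by omega)]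
        linear_combination -((d : ℂ) ^ i) * h1
    obtain ⟨m, hm⟩ : ∃ m, orderOf x = m + 2 := ⟨orderOf x - 2, by omega⟩
    have h2 := hpow m (by omega)
    have hxinv : x ^ (m + 1) = x⁻¹ := by
      rw [eq_inv_iff_mul_eq_one, ← pow_succ, ← hm, pow_orderOf_eq_one]
    rw [hxinv, IsCharacter.conj_inv (isCharacter_of_irr hχ)] at h2
    have h3 := congrArg norm h2
    rw [norm_mul, Complex.norm_conj, norm_pow, norm_pow, Complex.norm_natCast, pow_succ'] at h3
    exact ((pow_left_inj₀ (Nat.cast_nonneg _) (norm_nonneg _) (by omega : m ≠ 0)).1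
      (mul_left_cancel₀ (norm_ne_zero_iff.2 (hdata x hx hx1).1) h3)).symm
  -- the commutators lie in the kernel
  set N := kerSubgroup χ (isCharacter_of_irr hχ)
  have hker : ⁅O, H⁆ ≤ N := by
    rw [commutator_le]
    intro a _ h hh
    rw [mem_kerSubgroup, hχ1]
    obtain ⟨n, ρ, hρ, hρχ⟩ := hχ
    have hn : n = d := by
      have h1 := hχ1
      rw [← hρχ, ρ.char_one, Module.finrank_fintype_fun_eq_card, Fintype.card_fin] at h1
      exact_mod_cast h1
    obtain ⟨ω, hω, -⟩ := scalar_of_norm_character_eq ρ h (by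
      rw [hρχ, hfull h hh, Module.finrank_fintype_fun_eq_card, Fintype.card_fin, hn])
    have hconj : ρ (a * h * a⁻¹) = ρ h := by
      rw [map_mul, map_mul, hω, mul_smul_comm, smul_mul_assoc, ← Module.End.one_eq_id, mul_one,
        ← map_mul, mul_inv_cancel, map_one]
    rw [← hρχ, commutatorElement_def]
    show LinearMap.trace ℂ _ (ρ (a * h * a⁻¹ * h⁻¹)) = _
    rw [map_mul, hconj, ← map_mul, mul_inv_cancel]
    show ρ.character 1 = _
    rw [ρ.char_one, Module.finrank_fintype_fun_eq_card, Fintype.card_fin, hn]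
  have h4 := (mem_kerSubgroup _ (z : G)).1 (hker hz)
  rw [← hres z, h4, hχ1, hd]

theorem kerOn_aux (hp2 : p ≠ 2) (n : ℕ) : ∀ (G : Type u) [Group G] [Finite G] (H O : Subgroup G),
    Nat.card O + Nat.card H = n → Hyp p H → H ≤ normalizer (O : Set G) →
      (Nat.card O).Coprime p → KerOn H O := by
  induction n using Nat.strong_induction_on with
  | _ n ih =>
  intro G _ _ H O hn hH hHO hcop
  classical
  -- pass to `O H`
  suffices key : ∀ (H₁ O₁ : Subgroup ↥(O ⊔ H)), O₁.Normal → Nat.card O₁ + Nat.card H₁ = n →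
      Hyp p H₁ → (Nat.card O₁).Coprime p → O₁ ⊔ H₁ = ⊤ → KerOn H₁ O₁ by
    intro φ hφ hst z hz
    set K := O ⊔ H
    have hOK : O ≤ K := le_sup_left
    have hHK : H ≤ K := le_sup_right
    set e := subgroupOfEquivOfLe hOK
    have hzK : (((e.symm z : O.subgroupOf K) : K)) ∈ ⁅O.subgroupOf K, H.subgroupOf K⁆ := by
      have h1 : (⁅O.subgroupOf K, H.subgroupOf K⁆).map K.subtype = ⁅O, H⁆ := by
        rw [map_commutator, map_subgroupOf_eq_of_le hOK, map_subgroupOf_eq_of_le hHK]
      rw [← h1] at hz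
      obtain ⟨y, hy, hye⟩ := hz
      rwa [show ((e.symm z : O.subgroupOf K) : K) = y from Subtype.ext hye.symm]
    have h2 := key (H.subgroupOf K) (O.subgroupOf K)
      (normal_subgroupOf_of_le_normalizer (sup_le Subgroup.le_normalizer hHO))
      (by rw [Nat.card_congr e.toEquiv, Nat.card_congr (subgroupOfEquivOfLe hHK).toEquiv, hn])
      (hH.restrict hHK) (by rwa [Nat.card_congr e.toEquiv])
      (eq_top_iff.2 fun y _ => by
        have := y.2
        rw [show (⊤ : Subgroup K) = ⊤ from rfl] at *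
        rw [← subgroupOf_sup hOK hHK, mem_subgroupOf]
        exact this)
      (fun a => φ (e a)) (IsIrrCharacter.comp_mulEquiv hφ e)
      (fun h hh a b hb => hst _ hh (e a) (e b) (congrArg Subtype.val hb)) (e.symm z) hzK
    simpa using h2
  intro H₁ O₁ hO₁ hcard hH₁ hcop₁ hgen
  have hsmall : ∀ x ∈ H₁, (∀ a ∈ O₁, a * x = x * a) ∨
      KerOn H₁ (O₁ ⊓ centralizer ({x} : Set ↥(O ⊔ H))) := by
    intro x hx
    by_cases hc : ∀ a ∈ O₁, a * x = x * a
    · exact Or.inl hc
    refine Or.inr (ih _ ?_ ↥(O ⊔ H) H₁ _ rfl hH₁ ?_ (hcop₁.coprime_dvd_left (card_dvd_of_le inf_le_left)))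
    · have hlt : Nat.card ↥(O₁ ⊓ centralizer ({x} : Set ↥(O ⊔ H))) < Nat.card O₁ := by
        refine lt_of_le_of_ne (Nat.card_le_card_of_injective _ (inclusion_injective inf_le_left)) ?_
        intro he
        refine hc fun a ha => ?_
        have h1 := Subgroup.eq_of_le_of_card_ge inf_le_left he.ge
        rw [← h1] at ha
        exact mem_centralizer_singleton_iff.1 ha.2
      omega
    · exact fun h hh => mem_normalizer_of_maps fun b hb => ⟨hO₁.conj_mem b hb.1 h,
        (Subgroup.mem_normalizer_iff.1 (Subgroup.le_normalizer (hH₁.le_cent hx hh)) b).1 hb.2⟩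
  by_cases hcent : ∃ x ∈ H₁, x ≠ 1 ∧ ∀ a ∈ O₁, a * x = x * a
  swap
  · exact kerOn_faithful hp2 hH₁ hcop₁ hgen fun x hx hx1 =>
      (hsmall x hx).resolve_left fun h => hcent ⟨x, hx, hx1, h⟩
  obtain ⟨x, hx, hx1, hxO⟩ := hcent
  intro φ hφ hst z hz
  set Z := zpowers x
  have hZH : Z ≤ H₁ := zpowers_le.2 hx
  have hxc : ∀ g : ↥(O ⊔ H), Commute x g := fun g => by
    obtain ⟨h, hh, a, ha, rfl⟩ := Hyp.exists_mul (le_normalizer_of_normal) hgen g
    exact Commute.mul_right (hH₁.comm x hx h hh) (hxO a ha).symm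
  haveI : Z.Normal := ⟨fun y hy g => by
    obtain ⟨i, rfl⟩ := hy
    refine ⟨i, show x ^ i = g * x ^ i * g⁻¹ from ?_⟩
    rw [← ((hxc g).zpow_left i).eq, mul_inv_cancel_right]⟩
  set π := QuotientGroup.mk' Z
  have hinj : ∀ a ∈ O₁, ∀ b ∈ O₁, π a = π b → a = b := by
    intro a ha b hb he
    have h1 : a⁻¹ * b ∈ Z := QuotientGroup.eq.1 he
    obtain ⟨s, hs⟩ := hH₁.pow_eq_one (hZH h1)
    exact inv_mul_eq_one.1 (eq_one_of_pElement hs (orderOf_coprime hcop₁ (mul_mem (inv_mem ha) hb)))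
  set e : O₁ ≃* O₁.map π := MulEquiv.ofBijective (π.subgroupMap O₁)
    ⟨fun a b hab => Subtype.ext (hinj a a.2 b b.2 (congrArg Subtype.val hab)),
      π.subgroupMap_surjective O₁⟩
  have he : ∀ a : O₁, ((e a : O₁.map π) : _ ⧸ Z) = π a := fun a => rfl
  have hlt : Nat.card (O₁.map π) + Nat.card (H₁.map π) < n := by
    have h2 : Nat.card (H₁.map π) * Nat.card Z = Nat.card H₁ := by
      rw [← relIndex_bot_left, ← relIndex_bot_left Z, ← relIndex_bot_left H₁, mul_comm,
        ← relIndex_mul_relIndex ⊥ Z H₁ bot_le hZH, relIndex_bot_left (H₁.map π), ← relIndex_ker,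
        QuotientGroup.ker_mk']
    have h3 : 1 < Nat.card Z := (one_lt_card_iff_ne_bot Z).2 fun h => hx1 (zpowers_eq_bot.1 h)
    rw [← Nat.card_congr e.toEquiv, ← hcard, ← h2]
    have : 0 < Nat.card (H₁.map π) := Nat.card_pos
    exact Nat.add_lt_add_left (lt_mul_of_one_lt_right this h3) _
  have h2 := ih _ hlt _ (H₁.map π) (O₁.map π) rfl (hH₁.quotient Z (Or.inl hZH))
    (by
      haveI := hO₁.map π (QuotientGroup.mk'_surjective Z)
      exact le_normalizer_of_normal)
    (by rwa [← Nat.card_congr e.toEquiv])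
    (fun a => φ (e.symm a)) (IsIrrCharacter.comp_mulEquiv hφ e.symm)
    (by
      rintro _ ⟨h, hh, rfl⟩ a b hb
      refine hst h hh (e.symm a) (e.symm b) (hinj _ (e.symm b).2 _
        (hO₁.conj_mem _ (e.symm a).2 h) ?_)
      rw [← he, e.apply_symm_apply, map_mul, map_mul, map_inv, ← he, e.apply_symm_apply, hb])
    (e z) (by
      rw [← map_commutator, he]
      exact ⟨z, hz, rfl⟩)
  simpa using h2

/-- fixed characters are trivial on `[O, H]` -/
theorem kerOn (hp2 : p ≠ 2) {H O : Subgroup G} (hH : Hyp p H) (hHO : H ≤ normalizer (O : Set G))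
    (hcop : (Nat.card O).Coprime p) : KerOn H O :=
  kerOn_aux hp2 _ G H O rfl hH hHO hcop

end Cfsg.Lib.ExtOdd
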