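import Mathlib
import Cfsg.Agent.ExtClosedOdd.Contra
import Cfsg.Agent.Blocks.Feit3

/-!
Extremely closed abelian `p`-subgroups, `p` odd: `G = N(H) O_{p'}(G)`.
-/

set_option autoImplicit false
set_option linter.unusedSectionVars false
set_option linter.style.haveILetI false

namespace Cfsg.Lib.ExtOdd

open Subgroup
open Cfsg.Lib.ZStarApps (mem_normalizer_of_maps)

universe u

variable {G : Type u} [Group G] [Finite G] {p : ℕ} [Fact p.Prime]

theorem exists_of_sup_eq_top {H : Subgroup G}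
    (h : normalizer (H : Set G) ⊔ Cfsg.pPrimeCore p G = ⊤) (g : G) :
    ∃ t ∈ Cfsg.pPrimeCore p G, t⁻¹ * g ∈ normalizer (H : Set G) := by
  have hg : g ∈ ((normalizer (H : Set G) ⊔ Cfsg.pPrimeCore p G : Subgroup G) : Set G) := by
    rw [h]; exact mem_top g
  rw [Subgroup.mul_normal] at hg
  obtain ⟨n, hn, t, ht, rfl⟩ := hg
  refine ⟨n * t * n⁻¹, (inferInstance : (Cfsg.pPrimeCore p G).Normal).conj_mem t ht n, ?_⟩
  rw [show (n * t * n⁻¹)⁻¹ * (n * t) = n by group]
  exact hn

/-- subgroups of order prime to `p` modulo a central subgroup of `H` -/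
theorem eq_of_core_bot {Z L : Subgroup G} [L.Normal] (hZ : IsPGroup p Z) (hZL : Z ≤ L)
    (hZc : ∀ z ∈ Z, ∀ g : G, z * g = g * z) (hidx : (Z.relIndex L).Coprime p)
    (hcore : Cfsg.pPrimeCore p G = ⊥) : L ≤ Z := by
  have hp : p.Prime := Fact.out
  haveI : (Z.subgroupOf L).Normal := ⟨fun x hx g => by
    rw [mem_subgroupOf] at hx ⊢
    simp only [Subgroup.coe_mul, InvMemClass.coe_inv]
    rwa [← hZc _ hx (g : G), mul_inv_cancel_right]⟩
  obtain ⟨k, hk⟩ := IsPGroup.iff_card.1 hZ
  have hcard : Nat.card (Z.subgroupOf L) = p ^ k := by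
    rw [Nat.card_congr (subgroupOfEquivOfLe hZL).toEquiv, hk]
  obtain ⟨W, hW⟩ := exists_right_complement'_of_coprime (N := Z.subgroupOf L)
    (by rw [hcard]; exact hidx.symm.pow_left k)
  have hWcard : Nat.card W = Z.relIndex L := hW.symm.index_eq_card.symm
  set W' := W.map L.subtype
  have hW' : (Nat.card W').Coprime p := by
    rw [card_map_of_injective L.subtype_injective, hWcard]
    exact hidx
  have hmem : ∀ x ∈ L, (orderOf x).Coprime p → x ∈ W' := by
    intro x hxL hx
    obtain ⟨⟨⟨c, hc⟩, ⟨w, hw⟩⟩, hcw⟩ := hW.surjective ⟨x, hxL⟩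
    have hx' : (c : G) * (w : G) = x := congrArg Subtype.val hcw
    replace hc : (c : G) ∈ Z := mem_subgroupOf.1 hc
    obtain ⟨s, hs⟩ := hZ ⟨_, hc⟩
    have hn : (c : G) ∈ normalizer (W' : Set G) := mem_normalizer_of_maps fun y hy => by
      rw [hZc _ hc y, mul_inv_cancel_right]; exact hy
    have h1 : (c : G) = 1 := eq_one_of_mul hW' hn ⟨w, hw, rfl⟩ (congrArg Subtype.val hs)
      (by rw [Subgroup.subtype_apply, hx']; exact hx)
    rw [← hx', h1, one_mul]
    exact ⟨w, hw, rfl⟩
  have hWn : W'.Normal := ⟨fun x hx g => by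
    have hxL : x ∈ L := map_subtype_le W hx
    refine hmem _ ((inferInstance : L.Normal).conj_mem x hxL g) ?_
    rw [← MulAut.conj_apply, MulEquiv.orderOf_eq]
    exact orderOf_coprime hW' hx⟩
  have hle : W' ≤ ⊥ := hcore ▸ Cfsg.Lib.Components.le_pPrimeCore (hn := hWn) hW'
  intro x hx
  obtain ⟨⟨⟨c, hc⟩, ⟨w, hw⟩⟩, hcw⟩ := hW.surjective ⟨x, hx⟩
  have hx' : (c : G) * (w : G) = x := congrArg Subtype.val hcw
  have hw1 : (w : G) = 1 := Subgroup.mem_bot.1 (hle ⟨w, hw, rfl⟩)
  rw [← hx', hw1, mul_one]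
  exact mem_subgroupOf.1 hc

theorem main_aux (hp2 : p ≠ 2) (k : ℕ) : ∀ (G : Type u) [Group G] [Finite G] (H : Subgroup G),
    Nat.card G = k → Hyp p H → normalizer (H : Set G) ⊔ Cfsg.pPrimeCore p G = ⊤ := by
  induction k using Nat.strong_induction_on with
  | _ k ih =>
  intro G _ _ H hk hH
  classical
  have hp : p.Prime := Fact.out
  by_cases hbot : H = ⊥
  · refine top_le_iff.1 fun g _ => mem_sup_left (mem_normalizer_of_fix fun x hx => ?_)
    rw [hbot, mem_bot] at hx
    rw [hx, one_mul, mul_one]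
  by_cases hcore : Cfsg.pPrimeCore p G = ⊥
  swap
  · set O := Cfsg.pPrimeCore p G with hOdef
    set π := QuotientGroup.mk' O
    have hO : (Nat.card O).Coprime p := Cfsg.Lib.Components.coprime_card_pPrimeCore p
    have hlt : Nat.card (G ⧸ O) < k := by
      rw [← hk, card_eq_card_quotient_mul_card_subgroup O]
      exact lt_mul_of_one_lt_right Nat.card_pos (one_lt_card_iff_ne_bot O |>.2 hcore)
    have h1 := ih _ hlt (G ⧸ O) (H.map π) rfl (hH.quotient O (Or.inr hO))
    have hc : Cfsg.pPrimeCore p (G ⧸ O) = ⊥ := by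
      have hle : (Cfsg.pPrimeCore p (G ⧸ O)).comap π ≤ O := by
        refine Cfsg.Lib.Components.le_pPrimeCore (hn := inferInstance) ?_
        have e : O.relIndex ((Cfsg.pPrimeCore p (G ⧸ O)).comap π) =
            Nat.card (Cfsg.pPrimeCore p (G ⧸ O)) := by
          conv_rhs => rw [← map_comap_eq_self_of_surjective (QuotientGroup.mk'_surjective O)
            (Cfsg.pPrimeCore p (G ⧸ O)), ← relIndex_ker, QuotientGroup.ker_mk']
        have hOle : O ≤ (Cfsg.pPrimeCore p (G ⧸ O)).comap π := fun x hx => by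
          rw [mem_comap, show π x = 1 from (QuotientGroup.eq_one_iff x).2 hx]
          exact one_mem _
        rw [← relIndex_bot_left, ← relIndex_mul_relIndex ⊥ O _ bot_le hOle, e, relIndex_bot_left]
        exact Nat.Coprime.mul_left hO (Cfsg.Lib.Components.coprime_card_pPrimeCore p)
      refine le_bot_iff.1 fun y hy => ?_
      obtain ⟨x, rfl⟩ := QuotientGroup.mk'_surjective O y
      exact mem_bot.2 ((QuotientGroup.eq_one_iff x).2 (hle hy))
    rw [hc, sup_bot_eq] at h1
    haveI : (H.map π).Normal := normalizer_eq_top_iff.1 h1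
    refine top_le_iff.1 fun g _ => ?_
    obtain ⟨O', hO', hX, -, o, ho, hn⟩ := hH.decomp g
    have hXle : H ⊔ H.map (MulAut.conj g).toMonoidHom ≤ (H.map π).comap π := by
      refine sup_le (le_comap_map π H) ?_
      rintro _ ⟨a, ha, rfl⟩
      show π (g * a * g⁻¹) ∈ H.map π
      rw [map_mul, map_mul, map_inv]
      exact (inferInstance : (H.map π).Normal).conj_mem _ ⟨a, ha, rfl⟩ _
    have hoO : o ∈ O := mem_of_image_mem hH (orderOf_coprime hO'.cop ho) (hXle (hX ho))
    rw [show g = o * (o⁻¹ * g) by group]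
    exact mul_mem (mem_sup_right hoO) (mem_sup_left hn)
  have hlocal : ∀ K : Subgroup G, H ≤ K → K ≠ ⊤ → Local p H K := by
    intro K hHK hKT g hg
    have hlt : Nat.card K < k := hk ▸ lt_of_le_of_ne (card_le_card_group K)
      fun h => hKT (eq_top_of_card_eq K h)
    obtain ⟨t, ht, hn⟩ := exists_of_sup_eq_top (ih _ hlt K _ rfl (hH.restrict hHK)) ⟨g, hg⟩
    exact ⟨t, ⟨t, ht, rfl⟩, mem_normalizer_of_maps fun a ha =>
      (Subgroup.mem_normalizer_iff.1 hn ⟨a, hHK ha⟩).1 ha⟩
  have hnormal : H.Normal → normalizer (H : Set G) ⊔ Cfsg.pPrimeCore p G = ⊤ := fun h => by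
    rw [normalizer_eq_top_iff.2 h, top_sup_eq]
  by_cases hcent : ∃ x ∈ H, x ≠ 1 ∧ ∀ g : G, x * g = g * x
  · obtain ⟨x, hx, hx1, hxc⟩ := hcent
    set Z := zpowers x
    have hZH : Z ≤ H := zpowers_le.2 hx
    have hZc : ∀ z ∈ Z, ∀ g : G, z * g = g * z := by
      rintro _ ⟨i, rfl⟩ g
      exact ((show Commute x g from hxc g).zpow_left i).eq
    haveI hZn : Z.Normal := ⟨fun z hz g => by
      rw [← hZc z hz g, mul_inv_cancel_right]; exact hz⟩
    set π := QuotientGroup.mk' Z
    have hlt : Nat.card (G ⧸ Z) < k := by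
      rw [← hk, card_eq_card_quotient_mul_card_subgroup Z]
      refine lt_mul_of_one_lt_right Nat.card_pos ((one_lt_card_iff_ne_bot Z).2 ?_)
      exact fun h => hx1 (zpowers_eq_bot.1 h)
    have h1 := ih _ hlt (G ⧸ Z) (H.map π) rfl (hH.quotient Z (Or.inl hZH))
    have hc : Cfsg.pPrimeCore p (G ⧸ Z) = ⊥ := by
      set L := (Cfsg.pPrimeCore p (G ⧸ Z)).comap π
      have hZL : Z ≤ L := fun z hz => by
        rw [mem_comap, show π z = 1 from (QuotientGroup.eq_one_iff z).2 hz]
        exact one_mem _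
      have hle : L ≤ Z := by
        refine eq_of_core_bot (hH.pgrp.to_le hZH) hZL hZc ?_ hcore
        have e : Z.relIndex L = Nat.card (Cfsg.pPrimeCore p (G ⧸ Z)) := by
          conv_rhs => rw [← map_comap_eq_self_of_surjective (QuotientGroup.mk'_surjective Z)
            (Cfsg.pPrimeCore p (G ⧸ Z)), ← relIndex_ker, QuotientGroup.ker_mk']
        rw [e]
        exact Cfsg.Lib.Components.coprime_card_pPrimeCore p
      refine le_bot_iff.1 fun y hy => ?_
      obtain ⟨z, rfl⟩ := QuotientGroup.mk'_surjective Z y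
      exact mem_bot.2 ((QuotientGroup.eq_one_iff z).2 (hle hy))
    rw [hc, sup_bot_eq] at h1
    refine hnormal ?_
    have h2 : (H.map π).comap π = H := by
      rw [comap_map_eq, QuotientGroup.ker_mk', sup_eq_left.2 hZH]
    rw [← h2]
    exact (normalizer_eq_top_iff.1 h1).comap π
  push Not at hcent
  have hloc : ∀ x ∈ H, x ≠ 1 → Local p H (centralizer ({x} : Set G)) := fun x hx hx1 =>
    hlocal _ (hH.le_cent hx) fun h => by
      obtain ⟨g, hg⟩ := hcent x hx hx1
      exact hg (mem_centralizer_singleton_iff.1 (h ▸ mem_top g : g ∈ centralizer ({x} : Set G))).symm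
  by_cases hM0 : normalClosure (H : Set G) = ⊤
  swap
  · set M₀ := normalClosure (H : Set G) with hM₀
    have hHM : H ≤ M₀ := fun a ha => subset_normalClosure ha
    haveI : (Cfsg.pPrimeCore p M₀).Characteristic := Cfsg.Lib.Components.pPrimeCore_characteristic
    have hcb : core p M₀ ≤ ⊥ := hcore ▸ Cfsg.Lib.Components.le_pPrimeCore
      (hn := ConjAct.normal_of_characteristic_of_normal) (coprime_core M₀)
    have hMN : M₀ ≤ normalizer (H : Set G) := fun g hg => by
      obtain ⟨t, ht, hn⟩ := hlocal M₀ hHM hM0 g hg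
      rwa [mem_bot.1 (hcb ht), inv_one, one_mul] at hn
    refine hnormal ⟨fun a ha g => ?_⟩
    exact hH.closed (g := g) (mem_sup_right ⟨a, ha, rfl⟩)
      (hMN ((normalClosure_normal).conj_mem a (hHM ha) g))
  by_contra hN
  haveI := Fintype.ofFinite G
  haveI := Fintype.ofFinite H
  haveI := Fintype.ofFinite (normalizer (H : Set G))
  obtain ⟨M, hM⟩ := Cfsg.Lib.Blocks.exists_isPModular hp
  have hC : Crit p H :=
    { toHyp := hH, loc := hloc, core_bot := hcore, closure_top := hM0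
      ne_top := fun h => hN (by rw [h, top_sup_eq]) }
  exact hC.false hM hp2

/-- the factorization -/
theorem sup_core_eq_top (hp2 : p ≠ 2) {H : Subgroup G} (hH : Hyp p H) :
    normalizer (H : Set G) ⊔ Cfsg.pPrimeCore p G = ⊤ :=
  main_aux hp2 _ G H rfl hH

end Cfsg.Lib.ExtOdd
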