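import Mathlib
import Cfsg.Agent.ExtClosedOdd.Fixed
import Cfsg.Agent.ExtClosedOdd.Main

/-!
`[O, H] ∩ C(H) = 1` and the closure of an extremely closed abelian `p`-subgroup, `p` odd.
-/

set_option autoImplicit false
set_option linter.unusedSectionVars false
set_option linter.style.haveILetI false

namespace Cfsg.Lib.ExtOdd

open Subgroup Cfsg.Lib.Chars
open Cfsg.Lib.ZStarApps (mem_normalizer_of_maps)
open scoped commutatorElement

universe u v

/-- An invariant integral sum over a finite set with the action of a `p`-group is congruent to the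
sum over the fixed points. -/
theorem isIntegral_sum_sub_fixed {Q : Type u} [Group Q] {p : ℕ} [Fact p.Prime] (hQ : IsPGroup p Q)
    {X : Type v} [MulAction Q X] [Fintype X] [DecidablePred fun x : X => ∀ q : Q, q • x = x]
    {f : X → ℂ} (hf : ∀ (q : Q) (x : X), f (q • x) = f x) (hint : ∀ x, IsIntegral ℤ (f x)) :
    IsIntegral ℤ ((∑ x, f x - ∑ x ∈ Finset.univ.filter (fun x : X => ∀ q : Q, q • x = x), f x) /
      (p : ℂ)) := by
  classical
  rw [← Finset.sum_filter_add_sum_filter_not Finset.univ (fun x : X => ∀ q : Q, q • x = x) f,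
    add_sub_cancel_left,
    ← Finset.sum_fiberwise_of_maps_to (g := fun x : X => MulAction.orbit Q x)
      (fun x hx => Finset.mem_image_of_mem _ hx), Finset.sum_div]
  refine IsIntegral.sum _ fun ω hω => ?_
  obtain ⟨x₀, hx₀, rfl⟩ := Finset.mem_image.1 hω
  rw [Finset.mem_filter] at hx₀
  have hmoved : ¬ ∀ q : Q, q • x₀ = x₀ := hx₀.2
  have hset : ((Finset.univ.filter fun x : X => ¬ ∀ q : Q, q • x = x).filter fun x =>
      MulAction.orbit Q x = MulAction.orbit Q x₀) = (MulAction.orbit Q x₀).toFinset := by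
    ext x
    simp only [Finset.mem_filter, Finset.mem_univ, true_and, Set.mem_toFinset]
    refine ⟨fun h => h.2 ▸ MulAction.mem_orbit_self x, fun h => ⟨fun hfix => ?_,
      MulAction.orbit_eq_iff.2 h⟩⟩
    obtain ⟨q, hq⟩ := h
    have h1 : x = x₀ := by
      have hq' : q • x₀ = x := hq
      have h2 := hfix q⁻¹
      rw [← hq', inv_smul_smul] at h2
      rw [← hq', ← h2]
    exact hmoved (h1 ▸ hfix)
  rw [hset, Finset.sum_congr rfl fun x hx => show f x = f x₀ by
    obtain ⟨q, rfl⟩ := Set.mem_toFinset.1 hx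
    exact hf q x₀, Finset.sum_const, Set.toFinset_card, ← Nat.card_eq_fintype_card, nsmul_eq_mul]
  obtain ⟨k, hk⟩ := hQ.card_orbit x₀
  rcases k with _ | k
  · exfalso
    refine hmoved fun q => ?_
    rw [pow_zero] at hk
    haveI := (Nat.card_eq_one_iff_unique.1 hk).1
    exact congrArg Subtype.val (Subsingleton.elim (⟨q • x₀, MulAction.mem_orbit x₀ q⟩ :
      MulAction.orbit Q x₀) ⟨x₀, MulAction.mem_orbit_self x₀⟩)
  · rw [hk, pow_succ, Nat.cast_mul, mul_right_comm,
      mul_div_cancel_right₀ _ (Nat.cast_ne_zero.2 (Fact.out : p.Prime).ne_zero)]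
    exact (isIntegral_algebraMap (R := ℤ) (x := ((p ^ k : ℕ) : ℤ))).mul (hint x₀)

variable {G : Type u} [Group G] [Finite G] {p : ℕ} [Fact p.Prime]

/-- `[O, H]` has no fixed points -/
theorem commutator_inf_centralizer (hp2 : p ≠ 2) {H O : Subgroup G} (hH : Hyp p H)
    (hHO : H ≤ normalizer (O : Set G)) (hcop : (Nat.card O).Coprime p) {z : G} (hz : z ∈ ⁅O, H⁆)
    (hzc : ∀ h ∈ H, h * z = z * h) : z = 1 := by
  classical
  by_contra hz1
  have hp : p.Prime := Fact.out
  have hker := kerOn hp2 hH hHO hcop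
  have hzO : z ∈ O := Cfsg.Lib.Coprime.commutator_le_of_le_normalizer hHO hz
  set z' : O := ⟨z, hzO⟩
  have hz' : z' ≠ 1 := fun h => hz1 (congrArg Subtype.val h)
  let act : H →* MulAut O := (O.normalizerMonoidHom).comp (Subgroup.inclusion hHO)
  have hact : ∀ (h : H) (a : O), ((act h a : O) : G) = (h : G) * a * (h : G)⁻¹ := fun h a => rfl
  letI : MulAction H (IrrCharacter O) :=
    { smul := fun h φ => ⟨fun a => (φ : O → ℂ) (act h⁻¹ a), IsIrrCharacter.comp_mulEquiv φ.2 _⟩
      one_smul := fun φ => Subtype.ext (funext fun a => by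
        show (φ : O → ℂ) (act (1 : H)⁻¹ a) = (φ : O → ℂ) a
        rw [inv_one, map_one]; rfl)
      mul_smul := fun x y φ => Subtype.ext (funext fun a => by
        show (φ : O → ℂ) (act (x * y)⁻¹ a) = (φ : O → ℂ) (act y⁻¹ (act x⁻¹ a))
        rw [mul_inv_rev, map_mul]; rfl) }
  have hsm : ∀ (h : H) (φ : IrrCharacter O) (a : O),
      ((h • φ : IrrCharacter O) : O → ℂ) a = (φ : O → ℂ) (act h⁻¹ a) := fun h φ a => rfl
  have hfz : ∀ h : H, act h z' = z' := fun h => Subtype.ext (by
    rw [hact, hzc _ h.2, mul_inv_cancel_right])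
  have key : ∀ w : O, (∀ h : H, act h w = w) → IsIntegral ℤ
      ((∑ φ : IrrCharacter O, (φ : O → ℂ) 1 * (φ : O → ℂ) w -
        ∑ φ ∈ Finset.univ.filter (fun φ : IrrCharacter O => ∀ q : H, q • φ = φ),
          (φ : O → ℂ) 1 * (φ : O → ℂ) w) / (p : ℂ)) := fun w hw =>
    isIntegral_sum_sub_fixed hH.pgrp (f := fun φ : IrrCharacter O => (φ : O → ℂ) 1 * (φ : O → ℂ) w)
      (fun h φ => by simp only [hsm, map_one, hw])
      fun φ => (IsCharacter.isIntegral (isCharacter_of_irr φ.2) 1).mul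
        (IsCharacter.isIntegral (isCharacter_of_irr φ.2) w)
  have hfixed : ∀ φ ∈ Finset.univ.filter (fun φ : IrrCharacter O => ∀ q : H, q • φ = φ),
      (φ : O → ℂ) 1 * (φ : O → ℂ) z' = (φ : O → ℂ) 1 * (φ : O → ℂ) 1 := by
    intro φ hφ
    rw [hker φ φ.2 (fun h hh a b hb => ?_) z' hz]
    have h1 := congrArg (fun ψ : IrrCharacter O => (ψ : O → ℂ) b)
      ((Finset.mem_filter.1 hφ).2 ⟨h, hh⟩)
    simp only [hsm] at h1
    rw [← h1]
    refine congrArg (φ : O → ℂ) (Subtype.ext ?_)
    rw [hact, hb, InvMemClass.coe_inv, Subgroup.coe_mk]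
    group
  have h1 := key z' hfz
  have h2 := key 1 fun h => map_one _
  rw [sum_deg_mul, if_neg hz', Finset.sum_congr rfl hfixed] at h1
  rw [sum_deg_mul, if_pos rfl] at h2
  have h3 := h2.sub h1
  have h4 : IsIntegral ℤ ((Nat.card O : ℂ) / (p : ℂ)) := by
    rwa [← sub_div, sub_sub_sub_cancel_right, sub_zero] at h3
  exact hp.ne_one (Nat.dvd_one.1 (hcop ▸ Nat.dvd_gcd (dvd_of_isIntegral_div hp.ne_zero h4) dvd_rfl))

/-- the closure of `H` meets its normalizer in `H` -/
theorem closure_inf_normalizer (hp2 : p ≠ 2) {H : Subgroup G} (hH : Hyp p H) :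
    normalClosure (H : Set G) ⊓ normalizer (H : Set G) = H := by
  set O := Cfsg.pPrimeCore p G
  have hcop : (Nat.card O).Coprime p := Cfsg.Lib.Components.coprime_card_pPrimeCore p
  have hHO : H ≤ normalizer (O : Set G) := le_normalizer_of_normal
  set D := ⁅O, H⁆
  have hHD : H ≤ normalizer (D : Set G) := Cfsg.Lib.Coprime.le_normalizer_commutator_right H O
  have hle : normalClosure (H : Set G) ≤ H ⊔ D := by
    refine (closure_le _).2 fun x hx => ?_
    obtain ⟨a, ha, hax⟩ := Group.mem_conjugatesOfSet_iff.1 hx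
    obtain ⟨g, rfl⟩ := isConj_iff.1 hax
    obtain ⟨t, ht, hn⟩ := exists_of_sup_eq_top (sup_core_eq_top hp2 hH) g
    set b := (t⁻¹ * g) * a * (t⁻¹ * g)⁻¹
    have hb : b ∈ H := (Subgroup.mem_normalizer_iff.1 hn a).1 ha
    rw [show g * a * g⁻¹ = ⁅t, b⁆ * b by simp only [b, commutatorElement_def]; group]
    exact mul_mem (mem_sup_right (commutator_mem_commutator ht hb)) (mem_sup_left hb)
  refine le_antisymm ?_ (le_inf (fun a ha => subset_normalClosure ha) Subgroup.le_normalizer)
  rintro x ⟨hx, hn⟩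
  have hx' : x ∈ ((H ⊔ D : Subgroup G) : Set G) := hle hx
  rw [Subgroup.coe_mul_of_left_le_normalizer_right H D hHD] at hx'
  obtain ⟨h, hh, d, hd, hhd⟩ := hx'
  have hhd' : h * d = x := hhd
  have hdn : d ∈ normalizer (H : Set G) := by
    rw [show d = h⁻¹ * x by rw [← hhd']; group]
    exact mul_mem (inv_mem (Subgroup.le_normalizer hh)) hn
  have hdO : d ∈ O := Cfsg.Lib.Coprime.commutator_le_of_le_normalizer hHO hd
  have hd1 : d = 1 := commutator_inf_centralizer hp2 hH hHO hcop hd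
    fun a ha => hH.commute_of_mem hHO hcop hdO hdn ha
  rw [← hhd', hd1, mul_one]
  exact hh

end Cfsg.Lib.ExtOdd
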